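import Mathlib.GroupTheory.Sylow
import Mathlib.Tactic

/-!
Counting conjugacy classes of involutions.
-/

set_option autoImplicit false

namespace Cfsg.Agent.ALT

open Subgroup

variable {G : Type*} [Group G]

theorem exists_conj_mem_sylow [Finite G] (T : Sylow 2 G) {x : G} (hx : x * x = 1) :
    ∃ y ∈ (T : Subgroup G), IsConj x y := by
  have hz : IsPGroup 2 (zpowers x) := by
    rintro ⟨_, k, rfl⟩
    refine ⟨1, Subtype.ext ?_⟩
    show (x ^ k) ^ (2 ^ 1) = 1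
    rw [← zpow_natCast, ← zpow_mul, mul_comm, zpow_mul, zpow_natCast, pow_one, pow_two, hx,
      one_zpow]
  obtain ⟨Q, hQ⟩ := hz.exists_le_sylow
  obtain ⟨g, rfl⟩ := MulAction.exists_smul_eq G T Q
  have := hQ (mem_zpowers x)
  rw [Sylow.coe_subgroup_smul, mem_pointwise_smul_iff_inv_smul_mem] at this
  exact ⟨_, this, isConj_iff.2 ⟨g⁻¹, by simp⟩⟩

theorem orderOf_eq_two_iff {x : G} : orderOf x = 2 ↔ x * x = 1 ∧ x ≠ 1 :=
  ⟨fun h => ⟨by rw [← pow_two, ← h, pow_orderOf_eq_one], fun e => by simp [e] at h⟩,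
    fun h => orderOf_eq_prime (by rw [pow_two, h.1]) h.2⟩

theorem invol_of_isConj {x y : G} (h : IsConj x y) (hx : x * x = 1 ∧ x ≠ 1) :
    y * y = 1 ∧ y ≠ 1 := by
  obtain ⟨g, rfl⟩ := isConj_iff.1 h
  exact ⟨by rw [conj_mul, hx.1]; simp, fun e => hx.2 (conj_eq_one_iff.1 e)⟩

theorem exists_three [Finite G] (T : Sylow 2 G)
    (h : Nat.card {c : ConjClasses G // ∃ x ∈ c.carrier, orderOf x = 2} = 3) :
    ∃ x : Fin 3 → G, (∀ i, x i ∈ (T : Subgroup G) ∧ x i * x i = 1 ∧ x i ≠ 1) ∧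
      ∀ i j, IsConj (x i) (x j) → i = j := by
  have : Finite {c : ConjClasses G // ∃ x ∈ c.carrier, orderOf x = 2} :=
    Nat.finite_of_card_ne_zero (by omega)
  let e := (Finite.equivFinOfCardEq h).symm
  have : ∀ i, ∃ y ∈ (T : Subgroup G), (y * y = 1 ∧ y ≠ 1) ∧ ConjClasses.mk y = (e i).1 := by
    intro i
    obtain ⟨x, hx, h2⟩ := (e i).2
    rw [orderOf_eq_two_iff] at h2
    obtain ⟨y, hy, c⟩ := exists_conj_mem_sylow T h2.1
    exact ⟨y, hy, invol_of_isConj c h2, (ConjClasses.mk_eq_mk_iff_isConj.2 c.symm).trans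
      (ConjClasses.mem_carrier_iff_mk_eq.1 hx)⟩
  choose x h1 h2 h3 using this
  exact ⟨x, fun i => ⟨h1 i, h2 i⟩, fun i j c => e.injective (Subtype.ext
    ((h3 i).symm.trans ((ConjClasses.mk_eq_mk_iff_isConj.2 c).trans (h3 j))))⟩

theorem card_classes_eq {ι : Type*} (r : ι → G) (h1 : ∀ i, r i * r i = 1 ∧ r i ≠ 1)
    (h2 : ∀ i j, IsConj (r i) (r j) → i = j)
    (h3 : ∀ x, x * x = 1 → x ≠ 1 → ∃ i, IsConj x (r i)) :
    Nat.card {c : ConjClasses G // ∃ x ∈ c.carrier, orderOf x = 2} = Nat.card ι := by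
  symm
  refine Nat.card_congr (Equiv.ofBijective (fun i => ⟨ConjClasses.mk (r i), r i,
    ConjClasses.mem_carrier_iff_mk_eq.2 rfl, orderOf_eq_two_iff.2 (h1 i)⟩) ⟨fun i j e => ?_, ?_⟩)
  · exact h2 i j (ConjClasses.mk_eq_mk_iff_isConj.1 (congrArg Subtype.val e))
  · rintro ⟨c, x, hx, hx2⟩
    rw [orderOf_eq_two_iff] at hx2
    obtain ⟨i, hi⟩ := h3 x hx2.1 hx2.2
    exact ⟨i, Subtype.ext ((ConjClasses.mk_eq_mk_iff_isConj.2 hi.symm).trans
      (ConjClasses.mem_carrier_iff_mk_eq.1 hx))⟩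

end Cfsg.Agent.ALT
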