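import Cfsg.Agent.H49.SylowOf
import Mathlib.GroupTheory.SpecificGroups.Dihedral

/-!
Direct products of dihedral groups of order 8 inside a finite group: vocabulary.
-/

set_option autoImplicit false
set_option linter.unusedSectionVars false

namespace Cfsg.Agent.ALT

open Subgroup Cfsg.Agent.H49 DihedralGroup

/-- The dihedral group of order 8. -/
abbrev D8 := DihedralGroup 4

def z0 : D8 := r 2
def v0 : D8 := sr 1
def e0 : D8 := sr 0

def V0 : Subgroup D8 where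
  carrier := {x | x = 1 ∨ x = z0 ∨ x = v0 ∨ x = v0 * z0}
  one_mem' := Or.inl rfl
  mul_mem' := by
    intro a b
    simp only [Set.mem_ofPred_eq]
    revert a b
    decide
  inv_mem' := by
    intro a
    simp only [Set.mem_ofPred_eq]
    revert a
    decide

def E0 : Subgroup D8 where
  carrier := {x | x = 1 ∨ x = z0 ∨ x = e0 ∨ x = e0 * z0}
  one_mem' := Or.inl rfl
  mul_mem' := by
    intro a b
    simp only [Set.mem_ofPred_eq]
    revert a b
    decide
  inv_mem' := by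
    intro a
    simp only [Set.mem_ofPred_eq]
    revert a
    decide

theorem mem_V0 {x : D8} : x ∈ V0 ↔ x = 1 ∨ x = z0 ∨ x = v0 ∨ x = v0 * z0 := Iff.rfl
theorem mem_E0 {x : D8} : x ∈ E0 ↔ x = 1 ∨ x = z0 ∨ x = e0 ∨ x = e0 * z0 := Iff.rfl

instance : DecidablePred (· ∈ V0) := fun _ => decidable_of_iff _ mem_V0.symm
instance : DecidablePred (· ∈ E0) := fun _ => decidable_of_iff _ mem_E0.symm

theorem card_V0 : Nat.card V0 = 4 := by rw [Nat.card_eq_fintype_card]; decide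
theorem card_E0 : Nat.card E0 = 4 := by rw [Nat.card_eq_fintype_card]; decide
theorem d8_comm : ∀ x y : D8, x * y * x⁻¹ * y⁻¹ = 1 ∨ x * y * x⁻¹ * y⁻¹ = z0 := by decide
theorem d8_noncen : ∀ x : D8, x ≠ 1 → x ≠ z0 → ∃ y, x * y * x⁻¹ * y⁻¹ = z0 := by decide
theorem z0_comm : ∀ y : D8, z0 * y = y * z0 := by decide
theorem z0_ne : z0 ≠ 1 := by decide
theorem d8_split : ∀ x : D8, ∃ a ∈ V0, ∃ b ∈ E0, x = a * b := by decide
theorem d8_invol : ∀ x : D8, x * x = 1 → x ∈ V0 ∨ x ∈ E0 := by decide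
theorem d8_two : ∀ x y : D8, x * x = 1 → y * y = 1 → x * y = y * x → x ∈ V0 ∨ y ∈ E0 := by decide
theorem V0_sq : ∀ x ∈ V0, x * x = 1 := by decide
theorem E0_sq : ∀ x ∈ E0, x * x = 1 := by decide
theorem V0_comm : ∀ x ∈ V0, ∀ y ∈ V0, x * y = y * x := by decide
theorem E0_comm : ∀ x ∈ E0, ∀ y ∈ E0, x * y = y * x := by decide
theorem V0_conj : ∀ g, ∀ x ∈ V0, g * x * g⁻¹ ∈ V0 := by decide
theorem E0_conj : ∀ g, ∀ x ∈ E0, g * x * g⁻¹ ∈ E0 := by decide

theorem le_V0_or_E0 {B : Subgroup D8} (h1 : ∀ x ∈ B, x * x = 1)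
    (h2 : ∀ x ∈ B, ∀ y ∈ B, x * y = y * x) : B ≤ V0 ∨ B ≤ E0 := by
  by_cases h : B ≤ V0
  · exact Or.inl h
  · obtain ⟨x, hx, hxV⟩ := SetLike.not_le_iff_exists.1 h
    exact Or.inr fun y hy => (d8_two x y (h1 x hx) (h1 y hy) (h2 x hx y hy)).resolve_left hxV

variable {G : Type*} [Group G] {ι : Type*} [Fintype ι] [DecidableEq ι]

/-- The element `x` of the `i`-th factor. -/
def at1 (θ : (ι → D8) →* G) (i : ι) (x : D8) : G := θ (Pi.mulSingle i x)

/-- The product of the central involutions of the factors in `s`. -/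
def zs (θ : (ι → D8) →* G) (s : Finset ι) : G := θ fun i => if i ∈ s then z0 else 1

/-- The product of subgroups of the factors. -/
def pr (θ : (ι → D8) →* G) (B : ι → Subgroup D8) : Subgroup G := (Subgroup.pi Set.univ B).map θ

/-- The product of the four-groups `V0`. -/
abbrev VV (θ : (ι → D8) →* G) : Subgroup G := pr θ fun _ => V0

variable {θ : (ι → D8) →* G}

theorem mem_pr {B : ι → Subgroup D8} {x : G} : x ∈ pr θ B ↔ ∃ d, (∀ i, d i ∈ B i) ∧ θ d = x := by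
  simp [pr, Subgroup.mem_pi]

theorem map_mem_pr (hθ : Function.Injective θ) {B : ι → Subgroup D8} {d : ι → D8} :
    θ d ∈ pr θ B ↔ ∀ i, d i ∈ B i :=
  ⟨fun h => by
    obtain ⟨d', h1, h2⟩ := mem_pr.1 h
    rwa [← hθ h2], fun h => mem_pr.2 ⟨d, h, rfl⟩⟩

theorem pr_le (B : ι → Subgroup D8) : pr θ B ≤ θ.range := map_le_range _ _

theorem card_pr (hθ : Function.Injective θ) (B : ι → Subgroup D8) :
    Nat.card (pr θ B) = ∏ i, Nat.card (B i) := by
  rw [pr, card_map_of_injective hθ, ← Nat.card_pi]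
  exact Nat.card_congr ⟨fun x i => ⟨x.1 i, x.2 i trivial⟩,
    fun x => ⟨fun i => x i, fun i _ => (x i).2⟩, fun _ => rfl, fun _ => rfl⟩

theorem card_pr_four (hθ : Function.Injective θ) {B : ι → Subgroup D8}
    (h : ∀ i, B i = V0 ∨ B i = E0) : Nat.card (pr θ B) = 4 ^ Fintype.card ι := by
  rw [card_pr hθ, Finset.prod_congr rfl (g := fun _ => 4) fun i _ => by
    rcases h i with e | e <;> rw [e]; exacts [card_V0, card_E0]]
  simp

theorem pr_sq {B : ι → Subgroup D8} (h : ∀ i, B i = V0 ∨ B i = E0) :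
    ∀ x ∈ pr θ B, x * x = 1 := fun x hx => by
  obtain ⟨d, hd, rfl⟩ := mem_pr.1 hx
  rw [← map_mul, ← map_one θ]
  congr 1
  funext i
  rcases h i with e | e
  exacts [V0_sq _ (e ▸ hd i), E0_sq _ (e ▸ hd i)]

theorem pr_comm {B : ι → Subgroup D8} (h : ∀ i, B i = V0 ∨ B i = E0) :
    ∀ x ∈ pr θ B, ∀ y ∈ pr θ B, x * y = y * x := fun x hx y hy => by
  obtain ⟨d, hd, rfl⟩ := mem_pr.1 hx
  obtain ⟨c, hc, rfl⟩ := mem_pr.1 hy
  rw [← map_mul, ← map_mul]
  congr 1
  funext i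
  rcases h i with e | e
  exacts [V0_comm _ (e ▸ hd i) _ (e ▸ hc i), E0_comm _ (e ▸ hd i) _ (e ▸ hc i)]

theorem range_le_norm_pr {B : ι → Subgroup D8} (h : ∀ i, B i = V0 ∨ B i = E0) :
    θ.range ≤ 𝒩(pr θ B) := le_norm_iff.2 (by
  rintro _ ⟨g, rfl⟩ x hx
  obtain ⟨d, hd, rfl⟩ := mem_pr.1 hx
  refine mem_pr.2 ⟨g * d * g⁻¹, fun i => ?_, by simp⟩
  rcases h i with e | e
  · rw [e]; exact V0_conj _ _ (e ▸ hd i)
  · rw [e]; exact E0_conj _ _ (e ▸ hd i))

theorem range_eq_sup : θ.range = VV θ ⊔ pr θ fun _ => E0 := by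
  refine le_antisymm ?_ (sup_le (pr_le _) (pr_le _))
  rintro _ ⟨d, rfl⟩
  choose a ha b hb e using fun i => d8_split (d i)
  rw [show d = a * b from funext e, map_mul]
  exact mul_mem_sup (mem_pr.2 ⟨a, ha, rfl⟩) (mem_pr.2 ⟨b, hb, rfl⟩)

theorem two_range : IsPGroup 2 θ.range := by
  rintro ⟨_, d, rfl⟩
  refine ⟨2, Subtype.ext ?_⟩
  show θ d ^ 2 ^ 2 = 1
  rw [← map_pow, ← map_one θ]
  congr 1
  funext i
  exact (by decide : ∀ x : D8, x ^ 2 ^ 2 = 1) (d i)

/-- An elementary abelian subgroup of order `4ⁿ` of `J` is a product of four-groups. -/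
theorem eq_pr [Finite G] (hθ : Function.Injective θ) {A : Subgroup G} (hA : A ≤ θ.range)
    (h1 : ∀ x ∈ A, x * x = 1) (h2 : ∀ x ∈ A, ∀ y ∈ A, x * y = y * x)
    (hc : 4 ^ Fintype.card ι ≤ Nat.card A) :
    ∃ B : ι → Subgroup D8, (∀ i, B i = V0 ∨ B i = E0) ∧ A = pr θ B := by
  have k : ∀ i, ∃ B : Subgroup D8, (B = V0 ∨ B = E0) ∧ ∀ d, θ d ∈ A → d i ∈ B := fun i => by
    have := le_V0_or_E0 (B := (A.comap θ).map (Pi.evalMonoidHom (fun _ => D8) i))
      (by
        rintro _ ⟨d, hd, rfl⟩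
        exact congrFun (hθ (by rw [map_mul, map_one]; exact h1 _ hd) : d * d = 1) i)
      (by
        rintro _ ⟨d, hd, rfl⟩ _ ⟨c, hc, rfl⟩
        exact congrFun (hθ (by rw [map_mul, map_mul]; exact h2 _ hd _ hc) : d * c = c * d) i)
    rcases this with e | e
    exacts [⟨V0, Or.inl rfl, fun d hd => e ⟨d, hd, rfl⟩⟩, ⟨E0, Or.inr rfl, fun d hd => e ⟨d, hd, rfl⟩⟩]
  choose B hB hd using k
  refine ⟨B, hB, eq_of_le_of_card_ge (fun x hx => ?_) (by rwa [card_pr_four hθ hB])⟩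
  obtain ⟨d, rfl⟩ := hA hx
  exact mem_pr.2 ⟨d, fun i => hd i d hx, rfl⟩

theorem at1_inj (hθ : Function.Injective θ) {i j : ι} {x y : D8} (hx : x ≠ 1)
    (h : at1 θ i x = at1 θ j y) : i = j ∧ x = y := by
  have := congrFun (hθ h) i
  rw [Pi.mulSingle_eq_same] at this
  by_cases e : i = j
  · subst e
    exact ⟨rfl, by simpa using this⟩
  · rw [Pi.mulSingle_eq_of_ne e] at this
    exact absurd this hx

theorem at1_ne (hθ : Function.Injective θ) (i : ι) {x : D8} (hx : x ≠ 1) : at1 θ i x ≠ 1 :=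
  fun h => hx (by simpa using congrFun (hθ (h.trans (map_one θ).symm)) i)

theorem at1_mul (i : ι) (x y : D8) : at1 θ i (x * y) = at1 θ i x * at1 θ i y := by
  rw [at1, Pi.mulSingle_mul, map_mul]; rfl

theorem zs_insert {s : Finset ι} {i : ι} (h : i ∉ s) : zs θ (insert i s) = at1 θ i z0 * zs θ s := by
  rw [zs, zs, at1, ← map_mul]
  congr 1
  funext j
  by_cases e : j = i
  · subst e; simp [h]
  · simp [e]

theorem zs_empty : zs θ ∅ = 1 := by
  rw [zs, ← map_one θ]; rfl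

theorem zs_singleton (i : ι) : zs θ {i} = at1 θ i z0 := by
  rw [← insert_empty_eq, zs_insert (Finset.notMem_empty i), zs_empty, mul_one]

theorem zs_inj (hθ : Function.Injective θ) {s t : Finset ι} (h : zs θ s = zs θ t) : s = t := by
  ext i
  have := congrFun (hθ h) i
  by_cases h1 : i ∈ s <;> by_cases h2 : i ∈ t <;> simp_all [z0_ne, z0_ne.symm]

theorem zs_comm (s : Finset ι) : ∀ x ∈ θ.range, zs θ s * x = x * zs θ s := by
  rintro _ ⟨d, rfl⟩
  rw [zs, ← map_mul, ← map_mul]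
  congr 1
  funext i
  by_cases h : i ∈ s <;> simp [h, z0_comm]

theorem zs_mem_VV (s : Finset ι) : zs θ s ∈ VV θ :=
  mem_pr.2 ⟨_, fun i => by by_cases h : i ∈ s <;> simp [h, mem_V0], rfl⟩

theorem eq_zs {d : ι → D8} (h : ∀ i, d i = 1 ∨ d i = z0) :
    θ d = zs θ (Finset.univ.filter fun i => d i = z0) := by
  rw [zs]
  congr 1
  funext i
  rcases h i with e | e <;> simp [e, z0_ne.symm]

theorem conj_zs {g : G} {π : ι → ι} (hπ : Function.Injective π)
    (h : ∀ i, g * at1 θ i z0 * g⁻¹ = at1 θ (π i) z0) (s : Finset ι) :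
    g * zs θ s * g⁻¹ = zs θ (s.image π) := by
  induction s using Finset.induction_on with
  | empty => simp [zs_empty]
  | insert i s hi ih =>
    rw [Finset.image_insert, zs_insert hi, zs_insert (by simpa [hπ.eq_iff] using hi), ← ih, ← h]
    group

end Cfsg.Agent.ALT
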