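import Cfsg.Agent.ALT.KPerm

/-!
An even involution commuting with the fixed point free involution is conjugate into `V`.
-/

set_option autoImplicit false
set_option linter.unusedSectionVars false

namespace Cfsg.Agent.ALT

open Subgroup Equiv Equiv.Perm

section
variable {X : Type*} [DecidableEq X] {a b : X → X}

/-- The four points `p, q, a p, a q`. -/
def quad (a : X → X) (p q : X) : ZMod 4 → X := (![p, q, a p, a q] : Fin 4 → X)

theorem quad_inj (haa : ∀ x, a (a x) = x) (ha : ∀ x, a x ≠ x) {p q : X} (h1 : q ≠ p)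
    (h2 : q ≠ a p) : Function.Injective (quad a p q) := by
  have i : ∀ {x y}, a x = a y → x = y := fun {x y} e => by rw [← haa x, e, haa]
  have h3 : a q ≠ p := fun e => h2 (by rw [← e, haa])
  intro x y e
  rcases zmod4 x with rfl | rfl | rfl | rfl <;> rcases zmod4 y with rfl | rfl | rfl | rfl
  exacts [rfl, absurd e.symm h1, absurd e.symm (ha p), absurd e.symm h3, absurd e h1, rfl,
    absurd e h2, absurd e.symm (ha q), absurd e (ha p), absurd e.symm h2, rfl,
    absurd (i e).symm h1, absurd e h3, absurd e (ha q), absurd (i e) h1, rfl]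

theorem quad_add (haa : ∀ x, a (a x) = x) (p q : X) (x : ZMod 4) :
    quad a p q (x + 2) = a (quad a p q x) := by
  rcases zmod4 x with rfl | rfl | rfl | rfl
  exacts [rfl, rfl, (haa p).symm, (haa q).symm]

theorem exists_third {M : Finset X} (h : 4 ≤ M.card) (p p' : X) : ∃ q ∈ M, q ≠ p ∧ q ≠ p' := by
  obtain ⟨q, hq, hn⟩ := Finset.exists_mem_notMem_of_card_lt_card (s := {p, p'}) (t := M)
    (lt_of_le_of_lt Finset.card_le_two (by omega))
  exact ⟨q, hq, by simpa using hn⟩

theorem exists_quad (haa : ∀ x, a (a x) = x) (ha : ∀ x, a x ≠ x) (hbb : ∀ x, b (b x) = x)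
    (hab : ∀ x, a (b x) = b (a x)) {B : Finset X} (hB : 4 ≤ B.card) (ia : ∀ x ∈ B, a x ∈ B)
    (ib : ∀ x ∈ B, b x ∈ B) (h4 : 4 ∣ (B.filter fun x => b x ≠ x).card) :
    ∃ g : ZMod 4 → X, Function.Injective g ∧ (∀ x, g x ∈ B) ∧ (∀ x, g (x + 2) = a (g x)) ∧
      ∃ u ∈ V0, ∀ x, b (g x) = g (act u x) := by
  have k : ∀ p ∈ B, ∀ q ∈ B, ∀ x, quad a p q x ∈ B := fun p hp q hq x => by
    rcases zmod4 x with rfl | rfl | rfl | rfl
    exacts [hp, hq, ia p hp, ia q hq]
  by_cases h1 : ∃ p ∈ B, b p ≠ p ∧ b p ≠ a p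
  · obtain ⟨p, hp, e1, e2⟩ := h1
    refine ⟨quad a p (b p), quad_inj haa ha e1 e2, k p hp _ (ib p hp), quad_add haa _ _,
      v0 * z0, by decide, fun x => ?_⟩
    rcases zmod4 x with rfl | rfl | rfl | rfl
    exacts [rfl, hbb p, (hab p).symm, (hab (b p)).symm.trans (congrArg a (hbb p))]
  push Not at h1
  by_cases h2 : ∃ p ∈ B, b p ≠ p
  · obtain ⟨p, hp, e1⟩ := h2
    obtain ⟨q, hq, e2, e3⟩ := exists_third (M := B.filter fun x => b x ≠ x)
      (Nat.le_of_dvd (Finset.card_pos.2
      ⟨p, Finset.mem_filter.2 ⟨hp, e1⟩⟩) h4) p (a p)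
    rw [Finset.mem_filter] at hq
    refine ⟨quad a p q, quad_inj haa ha e2 e3, k p hp _ hq.1, quad_add haa _ _,
      z0, by decide, fun x => ?_⟩
    have f1 := h1 p hp e1
    have f2 := h1 q hq.1 hq.2
    rcases zmod4 x with rfl | rfl | rfl | rfl
    exacts [f1, f2, (hab p).symm.trans ((congrArg a f1).trans (haa p)),
      (hab q).symm.trans ((congrArg a f2).trans (haa q))]
  push Not at h2
  obtain ⟨p, hp⟩ := Finset.card_pos.1 (show 0 < B.card by omega)
  obtain ⟨q, hq, e2, e3⟩ := exists_third hB p (a p)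
  exact ⟨quad a p q, quad_inj haa ha e2 e3, k p hp _ hq, quad_add haa _ _, 1, one_mem _,
    fun x => by rw [act_one, h2 _ (k p hp q hq x)]⟩

theorem exists_blocks {ι : Type*} [DecidableEq ι] (f0 : ι → ZMod 4 → X) (haa : ∀ x, a (a x) = x)
    (ha : ∀ x, a x ≠ x) (hbb : ∀ x, b (b x) = x) (hab : ∀ x, a (b x) = b (a x)) (s : Finset ι) :
    ∀ B : Finset X, B.card = 4 * s.card → (∀ x ∈ B, a x ∈ B) → (∀ x ∈ B, b x ∈ B) →
      4 ∣ (B.filter fun x => b x ≠ x).card → ∃ (f : ι → ZMod 4 → X) (d : ι → D8),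
      (∀ i, d i ∈ V0) ∧ (∀ i ∈ s, ∀ x, f i x ∈ B ∧ f i (x + 2) = a (f i x) ∧
        b (f i x) = f i (act (d i) x)) ∧
      ∀ i ∈ s, ∀ j ∈ s, ∀ x y, f i x = f j y → i = j ∧ x = y := by
  induction s using Finset.induction_on with
  | empty => exact fun B _ _ _ _ => ⟨f0, 1, fun _ => one_mem _, by simp, by simp⟩
  | insert k s hk ih =>
    intro B hB ia ib h4
    rw [Finset.card_insert_of_notMem hk] at hB
    obtain ⟨g, g1, g2, g3, u, hu, g4⟩ := exists_quad haa ha hbb hab (by omega) ia ib h4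
    let Q := Finset.univ.image g
    have cQ : Q.card = 4 := by rw [Finset.card_image_of_injective _ g1]; rfl
    have mQ : ∀ x, g x ∈ Q := fun x => Finset.mem_image_of_mem _ (Finset.mem_univ x)
    have sQ : Q ⊆ B := Finset.image_subset_iff.2 fun x _ => g2 x
    have inv : ∀ c : X → X, (∀ x, c (c x) = x) → (∀ x ∈ B, c x ∈ B) → (∀ x, c (g x) ∈ Q) →
        ∀ x ∈ B \ Q, c x ∈ B \ Q := fun c h1 h2 h3 x hx => by
      rw [Finset.mem_sdiff] at hx ⊢
      refine ⟨h2 x hx.1, fun h => hx.2 ?_⟩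
      obtain ⟨y, -, e⟩ := Finset.mem_image.1 h
      rw [← h1 x, ← e]
      exact h3 y
    obtain ⟨f, d, h1, h2, h3⟩ := ih (B \ Q) (by rw [Finset.card_sdiff_of_subset sQ]; omega)
      (inv a haa ia fun x => g3 x ▸ mQ _) (inv b hbb ib fun x => g4 x ▸ mQ _) (by
        have e : ((B \ Q).filter fun x => b x ≠ x) =
            (B.filter fun x => b x ≠ x) \ Q.filter fun x => b x ≠ x := by
          ext x; simp only [Finset.mem_filter, Finset.mem_sdiff]; tauto
        rw [e, Finset.card_sdiff_of_subset (Finset.filter_subset_filter _ sQ)]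
        refine Nat.dvd_sub h4 ?_
        by_cases e1 : u = 1
        · rw [Finset.filter_eq_empty_iff.2, Finset.card_empty]
          · exact dvd_zero 4
          · intro x hx
            obtain ⟨y, -, rfl⟩ := Finset.mem_image.1 hx
            rw [g4, e1, act_one]; simp
        · rw [Finset.filter_eq_self.2, cQ]
          intro x hx
          obtain ⟨y, -, rfl⟩ := Finset.mem_image.1 hx
          rw [g4]
          exact fun e => act_V0 u hu e1 y (g1 e))
    have ne : ∀ i ∈ s, i ≠ k := fun i hi e => hk (e ▸ hi)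
    refine ⟨Function.update f k g, Function.update d k u, fun i => ?_, fun i hi x => ?_,
      fun i hi j hj x y e => ?_⟩
    · by_cases e : i = k
      · subst e; simpa using hu
      · simpa [e] using h1 i
    · rcases Finset.mem_insert.1 hi with rfl | hi
      · simp only [Function.update_self]
        exact ⟨g2 x, g3 x, g4 x⟩
      · simp only [Function.update_of_ne (ne i hi)]
        exact ⟨(Finset.mem_sdiff.1 (h2 i hi x).1).1, (h2 i hi x).2⟩
    · rcases Finset.mem_insert.1 hi with hi | hi <;> rcases Finset.mem_insert.1 hj with hj | hj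
      · exact ⟨hi.trans hj.symm, g1 (by simpa [hi, hj] using e)⟩
      · rw [hi, Function.update_self, Function.update_of_ne (ne j hj)] at e
        exact absurd (e ▸ mQ x) (Finset.mem_sdiff.1 (h2 j hj y).1).2
      · rw [hj, Function.update_self, Function.update_of_ne (ne i hi)] at e
        exact absurd (e ▸ mQ y) (Finset.mem_sdiff.1 (h2 i hi x).1).2
      · rw [Function.update_of_ne (ne i hi), Function.update_of_ne (ne j hj)] at e
        exact h3 i hi j hj x y e

end

theorem four_dvd_support {X : Type*} [Fintype X] [DecidableEq X] {w : Perm X} (h : w * w = 1)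
    (hs : sign w = 1) : 4 ∣ w.support.card := by
  have h2 : w ^ 2 = 1 := by rw [pow_two, h]
  have h3 := two_dvd_card_support h2
  rw [sign_of_pow_two_eq_one h2, card_fixedPoints, sum_cycleType,
    Nat.sub_sub_self w.support.card_le_univ, neg_one_pow_eq_one_iff_even (by decide)] at hs
  obtain ⟨k, hk⟩ := hs
  omega

variable {ι : Type*} [Fintype ι] [DecidableEq ι]

theorem exists_conj_blk {w : Perm (ι × ZMod 4)} (h : w * w = 1) (hs : sign w = 1)
    (hc : w * aa ι = aa ι * w) : ∃ g : Perm (ι × ZMod 4), g * aa ι = aa ι * g ∧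
      ∃ d, (∀ i, d i ∈ V0) ∧ w * g = g * blk d := by
  obtain ⟨f, d, h1, h2, h3⟩ := exists_blocks (a := aa ι) (b := w) (fun i x => (i, x)) aa_aa aa_ne
    (Equiv.congr_fun h) (Equiv.congr_fun hc.symm) Finset.univ Finset.univ
    (by simp [mul_comm]) (by simp) (by simp) (four_dvd_support h hs)
  have inj : Function.Injective fun p : ι × ZMod 4 => f p.1 p.2 := fun p q e =>
    Prod.ext_iff.2 (h3 _ (Finset.mem_univ _) _ (Finset.mem_univ _) _ _ e)
  refine ⟨Equiv.ofBijective _ (Finite.injective_iff_bijective.1 inj), Equiv.ext fun p => ?_, d, h1,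
    Equiv.ext fun p => (h2 _ (Finset.mem_univ _) _).2.2⟩
  show f (aa ι p).1 (aa ι p).2 = aa ι (f p.1 p.2)
  rw [aa_apply p]
  exact (h2 _ (Finset.mem_univ _) _).2.1

end Cfsg.Agent.ALT
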