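import Cfsg.Agent.ALT.KModel

/-!
Identification of the model with the centralizer in the alternating group.
-/

set_option autoImplicit false
set_option linter.unusedSectionVars false

namespace Cfsg.Agent.ALT

open Subgroup Equiv Equiv.Perm Cfsg.Agent.H49

theorem isConj_of_card_support {X : Type*} [Fintype X] [DecidableEq X] {a b : Perm X}
    (ha : a ^ 2 = 1) (hb : b ^ 2 = 1) (h : a.support.card = b.support.card) : IsConj a b := by
  have e1 := cycleType_of_pow_prime_eq_one ha
  have e2 := cycleType_of_pow_prime_eq_one hb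
  rw [← sum_cycleType, ← sum_cycleType, e1, e2, Multiset.sum_replicate, Multiset.sum_replicate,
    smul_eq_mul, smul_eq_mul] at h
  rw [isConj_iff_cycleType_eq, e1, e2, show a.cycleType.card = b.cycleType.card by omega]

theorem card_support_permCongr {X Y : Type*} [Fintype X] [DecidableEq X] [Fintype Y]
    [DecidableEq Y] (e : X ≃ Y) (a : Perm X) : (e.permCongr a).support.card = a.support.card := by
  have : (e.permCongr a).support = a.support.map e.toEmbedding := by
    ext y
    simp [← Equiv.eq_symm_apply]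
  rw [this, Finset.card_map]

variable {ι : Type*} [Fintype ι] [DecidableEq ι] {ρ : Type*} [Fintype ρ] [DecidableEq ρ]

theorem exists_model_iso {X : Type*} [Fintype X] [DecidableEq X]
    (hX : Fintype.card X = 4 * Fintype.card ι + Fintype.card ρ) (α : alternatingGroup X)
    (h2 : (α : Perm X) ^ 2 = 1) (hα : (α : Perm X).support.card = 4 * Fintype.card ι) :
    Nonempty (HH ι ρ ≃* 𝒞[α]) := by
  let e₀ : (ι × ZMod 4) ⊕ ρ ≃ X := Fintype.equivOfCardEq (by simp [hX, mul_comm])
  let α₀ : Perm ((ι × ZMod 4) ⊕ ρ) := Perm.sumCongr (aa ι) 1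
  have s0 : α₀.support = Finset.univ.map Function.Embedding.inl := by
    ext x
    rcases x with p | q
    · simpa [α₀] using aa_ne p
    · simp [α₀]
  have a2 : α₀ ^ 2 = 1 := Equiv.ext fun x => by
    rcases x with p | q
    · exact congrArg Sum.inl (aa_aa p)
    · rfl
  obtain ⟨g, hg⟩ := isConj_iff.1 (isConj_of_card_support (a := e₀.permCongrHom α₀)
    (by rw [← map_pow, a2, map_one]) h2 (by
      rw [hα]
      refine (card_support_permCongr e₀ α₀).trans ?_
      rw [s0]; simp [mul_comm]))
  let P : Perm ((ι × ZMod 4) ⊕ ρ) ≃* Perm X := e₀.permCongrHom.trans (MulAut.conj g)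
  have Pα : P α₀ = α := hg
  have Ps : ∀ x, sign (P x) = sign x := fun x => by
    show sign (g * e₀.permCongr x * g⁻¹) = _
    rw [map_mul, map_mul, sign_permCongr, map_inv, mul_inv_cancel_comm]
  let F : HH ι ρ →* Perm X := P.toMonoidHom.comp ((sumCongrHom _ _).comp (HH ι ρ).subtype)
  have F1 : ∀ y, F y ∈ alternatingGroup X := fun y => by
    show sign (P (Perm.sumCongr y.1.1 y.1.2)) = 1
    rw [Ps, sign_sumCongr, y.2.2, Int.units_mul_self]
  have F2 : ∀ y, F.codRestrict _ F1 y ∈ 𝒞[α] := fun y => mem_cent1.2 (Subtype.ext (by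
    show P (Perm.sumCongr y.1.1 y.1.2) * α = α * P (Perm.sumCongr y.1.1 y.1.2)
    rw [← Pα, ← map_mul, ← map_mul, sumCongr_mul, sumCongr_mul, y.2.1, mul_one, one_mul]))
  refine ⟨MulEquiv.ofBijective ((F.codRestrict _ F1).codRestrict _ F2) ⟨fun a b e => ?_, ?_⟩⟩
  · exact Subtype.ext (sumCongrHom_injective (P.injective (congrArg (·.1.1) e)))
  · rintro ⟨⟨x, hx⟩, hc⟩
    obtain ⟨x, rfl⟩ := P.surjective x
    have c : x * α₀ = α₀ * x := P.injective (by
      rw [map_mul, map_mul, Pα]; exact congrArg Subtype.val (mem_cent1.1 hc))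
    obtain ⟨⟨w, σ⟩, rfl⟩ := mem_sumCongrHom_range_of_perm_mapsTo_inl (σ := x) (by
      rintro _ ⟨p, rfl⟩
      rcases e : x (Sum.inl p) with p' | q
      · exact ⟨p', rfl⟩
      · have := Equiv.congr_fun c (Sum.inl p)
        rw [mul_apply, mul_apply, e, show α₀ (Sum.inr q) = Sum.inr q from rfl, ← e] at this
        exact absurd (Sum.inl_injective (x.injective this)) (aa_ne p))
    refine ⟨⟨(w, σ), Equiv.ext fun p => Sum.inl_injective (Equiv.congr_fun c (Sum.inl p)), ?_⟩, rfl⟩
    have := mem_alternatingGroup.1 hx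
    rw [Ps, sumCongrHom_apply, sign_sumCongr] at this
    exact (by decide : ∀ a b : ℤˣ, a * b = 1 → a = b) _ _ this

end Cfsg.Agent.ALT
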