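import Cfsg.Agent.ALT.KD

/-!
A product `J` of dihedral groups of order 8 that is a Sylow 2-subgroup of the centralizer of its
centre is the Thompson subgroup of every 2-subgroup containing it.
-/

set_option autoImplicit false
set_option linter.unusedSectionVars false

namespace Cfsg.Agent.ALT

open Subgroup Cfsg.Agent.H49

variable {G : Type*} [Group G] [Finite G] {ι : Type*} [Fintype ι] [DecidableEq ι]
  {θ : (ι → D8) →* G}

theorem exists_conj_map {g : G} (hg : g ∈ 𝒩(θ.range)) (d : ι → D8) :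
    ∃ d', θ d' = g * θ d * g⁻¹ := conj_mem_of_norm le_rfl hg ⟨d, rfl⟩

theorem comm_single {d : ι → D8} {i : ι} {y : D8} (h : d i * y * (d i)⁻¹ * y⁻¹ = z0) :
    d * Pi.mulSingle i y * d⁻¹ * (Pi.mulSingle i y)⁻¹ = Pi.mulSingle i z0 := by
  funext j
  by_cases e : j = i
  · subst e; simpa using h
  · simp [e]

theorem exists_conj_z (hθ : Function.Injective θ) {g : G} (hg : g ∈ 𝒩(θ.range)) (i : ι) :
    ∃ j, g * at1 θ i z0 * g⁻¹ = at1 θ j z0 := by
  obtain ⟨d', hd⟩ := exists_conj_map hg (Pi.mulSingle i e0)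
  have hk : ∃ k, d' k ≠ 1 ∧ d' k ≠ z0 := by
    by_contra hc
    push Not at hc
    obtain ⟨y', hy⟩ := exists_conj_map hg (Pi.mulSingle i v0)
    have h1 := zs_comm (θ := θ) (Finset.univ.filter fun i => d' i = z0) _ ⟨y', rfl⟩
    rw [← eq_zs fun i => or_iff_not_imp_left.2 (hc i), hd, hy, conj_mul, conj_mul,
      mul_left_inj, mul_right_inj, ← map_mul, ← map_mul] at h1
    have := congrFun (hθ h1) i
    simp only [Pi.mul_apply, Pi.mulSingle_eq_same] at this
    exact absurd this (by decide)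
  obtain ⟨k, h1, h2⟩ := hk
  obtain ⟨y0, hy0⟩ := d8_noncen _ h1 h2
  obtain ⟨y, hy⟩ := exists_conj_map (inv_mem hg) (Pi.mulSingle k y0)
  have e1 : at1 θ k z0 = g * θ (Pi.mulSingle i e0 * y * (Pi.mulSingle i e0)⁻¹ * y⁻¹) * g⁻¹ := by
    rw [at1, ← comm_single hy0]
    simp only [map_mul, map_inv, hd, hy]
    group
  refine ⟨k, ?_⟩
  rcases d8_comm e0 (y i) with e | e
  · refine absurd (e1.trans ?_) (at1_ne hθ k z0_ne)
    rw [conj_eq_one_iff, ← map_one θ]
    congr 1
    funext j
    by_cases e' : j = i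
    · subst e'; simpa using e
    · simp [e']
  · rw [e1, at1]
    congr 3
    funext j
    by_cases e' : j = i
    · subst e'; simpa using e.symm
    · simp [e']

theorem exists_perm (hθ : Function.Injective θ) {g : G} (hg : g ∈ 𝒩(θ.range)) :
    ∃ π : ι → ι, Function.Injective π ∧ ∀ i, g * at1 θ i z0 * g⁻¹ = at1 θ (π i) z0 := by
  choose π hπ using exists_conj_z hθ hg
  refine ⟨π, fun i j e => (at1_inj hθ z0_ne (y := z0) ?_).1, hπ⟩
  have := hπ i
  rw [e, ← hπ j] at this
  simpa using this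

theorem card_conj_zs (hθ : Function.Injective θ) {g : G} (hg : g ∈ 𝒩(θ.range)) {s t : Finset ι}
    (h : g * zs θ s * g⁻¹ = zs θ t) : s.card = t.card := by
  obtain ⟨π, h1, h2⟩ := exists_perm hθ hg
  rw [conj_zs h1 h2] at h
  rw [← zs_inj hθ h, Finset.card_image_of_injective _ h1]

theorem norm_le_cent (hθ : Function.Injective θ) : 𝒩(θ.range) ≤ 𝒞[zs θ Finset.univ] :=
  fun g hg => by
    obtain ⟨π, h1, h2⟩ := exists_perm hθ hg
    have := conj_zs h1 h2 Finset.univ
    rw [Finset.image_univ_of_surjective (Finite.injective_iff_surjective.1 h1)] at this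
    exact mem_cent1.2 (mul_inv_eq_iff_eq_mul.1 this)

theorem four_mul_le (m : ℕ) (h : 0 < m) : m * 4 ≤ 4 ^ m := by
  induction m, h using Nat.le_induction with
  | base => simp
  | succ m hm ih => rw [pow_succ]; omega

theorem four_mul_lt (m : ℕ) (h : 1 < m) : m * 4 < 4 ^ m := by
  induction m, h using Nat.le_induction with
  | base => simp
  | succ m hm ih => rw [pow_succ]; omega

theorem card_le_four {B : Subgroup D8} (h1 : ∀ x ∈ B, x * x = 1)
    (h2 : ∀ x ∈ B, ∀ y ∈ B, x * y = y * x) : Nat.card B ≤ 4 := by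
  rcases le_V0_or_E0 h1 h2 with e | e
  exacts [(card_le_of_le e).trans card_V0.le, (card_le_of_le e).trans card_E0.le]

theorem le_range_of_card (hθ : Function.Injective θ) {A : Subgroup G} (hA : A ≤ 𝒩(θ.range))
    (h1 : ∀ x ∈ A, x * x = 1) (h2 : ∀ x ∈ A, ∀ y ∈ A, x * y = y * x)
    (hk : ∀ a ∈ A, (∀ i, a * at1 θ i z0 * a⁻¹ = at1 θ i z0) → a ∈ θ.range)
    (hc : 4 ^ Fintype.card ι ≤ Nat.card A) : A ≤ θ.range := by
  classical
  choose π hπ using fun (a : A) => exists_conj_z hθ (hA a.2)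
  have inj : ∀ {i j}, at1 θ i z0 = at1 θ j z0 → i = j := fun h => (at1_inj hθ z0_ne h).1
  let _ : MulAction A ι :=
    { smul := π
      one_smul := fun i => inj (by
        show at1 θ (π 1 i) z0 = _
        rw [← hπ]; simp)
      mul_smul := fun a b i => inj (by
        show at1 θ (π (a * b) i) z0 = at1 θ (π a (π b i)) z0
        rw [← hπ, ← hπ, ← hπ, Subgroup.coe_mul]
        group) }
  have hs : ∀ (a : A) i, a * at1 θ i z0 * (a : G)⁻¹ = at1 θ (a • i) z0 := hπ
  let Q := MulAction.orbitRel.Quotient A ι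
  let _ : Fintype Q := Fintype.ofFinite Q
  have rep : ∀ i : ι, ∃ (o : Q) (a : A), a • i = o.out := fun i => by
    obtain ⟨a, ha⟩ : (Quotient.mk'' i : Q).out ∈ MulAction.orbit A i :=
      Quotient.exact (Quotient.out_eq (Quotient.mk'' i : Q))
    exact ⟨_, a, ha⟩
  let K : Subgroup A := (MulAction.toPermHom A ι).ker
  have memK : ∀ a : A, a ∈ K ↔ ∀ i : ι, a • i = i := fun a => by
    simp [K, MonoidHom.mem_ker, Equiv.ext_iff]
  have hK : ∀ a : K, ∃ d, θ d = a := fun a => hk _ a.1.2 fun i => by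
    rw [hs, (memK _).1 a.2]
  choose δ hδ using hK
  have δmul : ∀ a b, δ (a * b) = δ a * δ b := fun a b => hθ (by rw [map_mul, hδ, hδ, hδ]; rfl)
  let B : Q → Subgroup D8 := fun o => (A.comap θ).map (Pi.evalMonoidHom (fun _ => D8) o.out)
  have cB : ∀ o, Nat.card (B o) ≤ 4 := fun o => card_le_four
    (by
      rintro _ ⟨d, hd, rfl⟩
      exact congrFun (hθ (by rw [map_mul, map_one]; exact h1 _ hd) : d * d = 1) _)
    (by
      rintro _ ⟨d, hd, rfl⟩ _ ⟨c, hc, rfl⟩
      exact congrFun (hθ (by rw [map_mul, map_mul]; exact h2 _ hd _ hc) : d * c = c * d) _)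
  have key : ∀ d, θ d ∈ A → (∀ o : Q, d o.out = 1) → d = 1 := fun d hd ho => by
    have fix : ∀ a : A, a * θ d * (a : G)⁻¹ = θ d := fun a => by
      rw [h2 _ a.2 _ hd, mul_inv_cancel_right]
    have cen : ∀ i, d i = 1 ∨ d i = z0 := fun i => by
      by_contra hc
      push Not at hc
      obtain ⟨y0, hy0⟩ := d8_noncen _ hc.1 hc.2
      obtain ⟨o, a, ha⟩ := rep i
      obtain ⟨y, hy⟩ := exists_conj_map (hA a.2) (Pi.mulSingle i y0)
      have e : θ (d * y * d⁻¹ * y⁻¹) = at1 θ o.out z0 := by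
        rw [← ha, ← hs, at1, ← comm_single hy0]
        simp only [map_mul, map_inv, hy]
        conv_lhs => rw [← fix a]
        group
      have := congrFun (hθ e) o.out
      simp [ho o, z0_ne.symm] at this
    funext i
    refine (cen i).resolve_right fun hi => ?_
    obtain ⟨o, a, ha⟩ := rep i
    have e := conj_zs (MulAction.injective a) (hs a) (Finset.univ.filter fun i => d i = z0)
    rw [← eq_zs cen, fix, eq_zs cen] at e
    have : o.out ∈ Finset.univ.filter fun i => d i = z0 := by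
      rw [zs_inj hθ e, ← ha]
      exact Finset.mem_image_of_mem _ (by simpa using hi)
    simp [ho o, z0_ne.symm] at this
  have c1 : Nat.card K ≤ ∏ _o : Q, 4 := by
    refine (Nat.card_le_card_of_injective (β := ∀ o, B o)
      (fun a o => ⟨δ a o.out, δ a, by show θ (δ a) ∈ A; rw [hδ]; exact a.1.2, rfl⟩)
      fun a b e => ?_).trans ?_
    · have := key (δ a * (δ b)⁻¹) (by
        rw [map_mul, map_inv, hδ, hδ]; exact mul_mem a.1.2 (inv_mem b.1.2)) fun o => by
          have : δ a o.out = δ b o.out := congrArg Subtype.val (congrFun e o)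
          simp [this]
      exact Subtype.ext (Subtype.ext (by rw [← hδ, ← hδ, mul_inv_eq_one.1 this]))
    · rw [Nat.card_pi]
      exact Finset.prod_le_prod' fun o _ => cB o
  have c2 : K.index ≤ ∏ o : Q, Nat.card (MulAction.orbit A o.out) := by
    rw [← Nat.card_pi, index]
    refine Nat.card_le_card_of_injective
      (fun q o => ⟨q.out • o.out, MulAction.mem_orbit _ _⟩) fun p q e => ?_
    rw [← p.out_eq, ← q.out_eq]
    refine QuotientGroup.eq.2 ((memK _).2 fun i => ?_)
    obtain ⟨o, a, ha⟩ := rep i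
    have e1 : p.out • o.out = q.out • o.out := congrArg Subtype.val (congrFun e o)
    have cm : ∀ x y : A, x * y = y * x := fun x y => Subtype.ext (h2 _ x.2 _ y.2)
    rw [← smul_left_cancel_iff a, smul_smul, cm, mul_smul, ha, mul_smul, ← e1, inv_smul_smul]
  have c3 : ∑ o : Q, Nat.card (MulAction.orbit A o.out) = Fintype.card ι := by
    rw [← Nat.card_eq_fintype_card, Nat.card_congr (MulAction.selfEquivSigmaOrbits A ι),
      Nat.card_sigma]
  have pos : ∀ o : Q, 0 < Nat.card (MulAction.orbit A o.out) := fun o =>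
    Nat.card_pos_iff.2 ⟨⟨⟨_, MulAction.mem_orbit_self _⟩⟩, inferInstance⟩
  intro x hx
  by_contra hxJ
  have : ∃ o : Q, 1 < Nat.card (MulAction.orbit A o.out) := by
    by_contra hc
    push Not at hc
    refine hxJ (hk x hx fun i => ?_)
    obtain ⟨o, a, ha⟩ := rep i
    have sub := Finite.card_le_one_iff_subsingleton.1 (hc o)
    have e : ∀ b : A, b • o.out = o.out := fun b => congrArg Subtype.val
      (sub.elim ⟨_, MulAction.mem_orbit _ b⟩ ⟨_, MulAction.mem_orbit_self _⟩)
    have e' : i = o.out := by rw [← e a⁻¹, ← ha, inv_smul_smul]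
    rw [hs ⟨x, hx⟩, e', e]
  obtain ⟨o, ho⟩ := this
  have c4 := Finset.prod_lt_prod (s := Finset.univ)
    (f := fun o : Q => Nat.card (MulAction.orbit A o.out) * 4)
    (g := fun o : Q => 4 ^ Nat.card (MulAction.orbit A o.out))
    (fun o _ => Nat.mul_pos (pos o) (by norm_num)) (fun o _ => four_mul_le _ (pos o))
    ⟨o, Finset.mem_univ _, four_mul_lt _ ho⟩
  rw [Finset.prod_mul_distrib, Finset.prod_pow_eq_pow_sum, c3] at c4
  have c5 := Nat.mul_le_mul c2 c1
  rw [K.index_mul_card] at c5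
  omega

end Cfsg.Agent.ALT
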