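import Cfsg.Agent.ALT.KJ

/-!
Weak closure of `J` and control of fusion.
-/

set_option autoImplicit false
set_option linter.unusedSectionVars false

namespace Cfsg.Agent.ALT

open Subgroup Cfsg.Agent.H49

variable {G : Type*} [Group G] [Finite G] {ι : Type*} [Fintype ι] [DecidableEq ι]

/-- `J` is a Sylow 2-subgroup of the centralizer of its centre. -/
def JS (θ : (ι → D8) →* G) : Prop :=
  Function.Injective θ ∧ ∀ P : Subgroup G, IsPGroup 2 P → θ.range ≤ P → ∀ x ∈ P,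
    (∀ i, x * at1 θ i z0 * x⁻¹ = at1 θ i z0) → x ∈ θ.range

variable {θ : (ι → D8) →* G}

theorem JS.of_three (hθ : Function.Injective θ)
    (h : ∀ x, (∀ i, x * at1 θ i z0 * x⁻¹ = at1 θ i z0) → ∃ d, ((θ d)⁻¹ * x) ^ 3 = 1) : JS θ :=
  ⟨hθ, fun P hP hJ x hx hc => by
    obtain ⟨d, hd⟩ := h x hc
    obtain ⟨k, hk⟩ := hP ⟨(θ d)⁻¹ * x, mul_mem (inv_mem (hJ ⟨d, rfl⟩)) hx⟩
    have h1 : ((θ d)⁻¹ * x) ^ 2 ^ k = 1 := congrArg Subtype.val hk
    have : orderOf ((θ d)⁻¹ * x) = 1 := Nat.eq_one_of_dvd_coprimes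
      (Nat.Coprime.pow_left k (by norm_num)) (orderOf_dvd_of_pow_eq_one h1)
      (orderOf_dvd_of_pow_eq_one hd)
    exact ⟨d, inv_mul_eq_one.1 (orderOf_eq_one_iff.1 this)⟩⟩

theorem cj_range_le {g : G} {M : Subgroup G}
    (h : ∀ A : Subgroup G, A ≤ cj g θ.range → (∀ x ∈ A, x * x = 1) →
      (∀ x ∈ A, ∀ y ∈ A, x * y = y * x) → 4 ^ Fintype.card ι ≤ Nat.card A → A ≤ M)
    (hθ : Function.Injective θ) : cj g θ.range ≤ M := by
  have k : ∀ B : ι → Subgroup D8, (∀ i, B i = V0 ∨ B i = E0) → cj g (pr θ B) ≤ M := fun B hB =>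
    h _ (cj_mono g (pr_le B))
      (fun x hx => by
        obtain ⟨y, hy, rfl⟩ := mem_cj'.1 hx
        rw [conj_mul, pr_sq hB y hy]; simp)
      (fun x hx x' hx' => by
        obtain ⟨y, hy, rfl⟩ := mem_cj'.1 hx
        obtain ⟨y', hy', rfl⟩ := mem_cj'.1 hx'
        rw [conj_mul, conj_mul, pr_comm hB y hy y' hy'])
      (by rw [card_cj, card_pr_four hθ hB])
  rw [range_eq_sup, cj_sup]
  exact sup_le (k _ fun _ => Or.inl rfl) (k _ fun _ => Or.inr rfl)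

theorem JS.le_norm (h : JS θ) {P : Subgroup G} (hP : IsPGroup 2 P) (hJ : θ.range ≤ P) :
    P ≤ 𝒩(θ.range) := by
  have e : P ⊓ 𝒩(θ.range) = P := by
    refine eq_of_inf_norm_le_of_nilpotent hP.isNilpotent inf_le_left fun g hg => ⟨hg.1, ?_⟩
    have h1 : cj g θ.range ≤ P ⊓ 𝒩(θ.range) :=
      cj_le_of_mem_norm (le_inf hJ le_normalizer) hg.2
    exact mem_norm_of_cj_le (cj_range_le (fun A hA a1 a2 a3 => le_range_of_card h.1
      (hA.trans (h1.trans inf_le_right)) a1 a2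
      (fun a ha => h.2 P hP hJ a (h1 (hA ha)).1) a3) h.1)
  exact e.ge.trans inf_le_right

theorem JS.le_range (h : JS θ) {P A : Subgroup G} (hP : IsPGroup 2 P) (hJ : θ.range ≤ P)
    (hA : A ≤ P) (h1 : ∀ x ∈ A, x * x = 1) (h2 : ∀ x ∈ A, ∀ y ∈ A, x * y = y * x)
    (hc : 4 ^ Fintype.card ι ≤ Nat.card A) : A ≤ θ.range :=
  le_range_of_card h.1 (hA.trans (h.le_norm hP hJ)) h1 h2 (fun a ha => h.2 P hP hJ a (hA ha)) hc

theorem JS.weak (h : JS θ) {P : Subgroup G} (hP : IsPGroup 2 P) (hJ : θ.range ≤ P) {g : G}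
    (hg : cj g θ.range ≤ P) : g ∈ 𝒩(θ.range) :=
  mem_norm_of_cj_le (cj_range_le (fun _ hA => h.le_range hP hJ (hA.trans hg)) h.1)

theorem exists_conj_le {M X Y : Subgroup G} (hX : X ≤ M) (hY : Y ≤ M) (h1 : IsPGroup 2 X)
    (h2 : IsPGroup 2 Y) : ∃ P : Subgroup G, IsPGroup 2 P ∧ X ≤ P ∧ P ≤ M ∧ ∃ c ∈ M, cj c Y ≤ P := by
  obtain ⟨P, hP, hXP⟩ := exists_sylowOf_ge ((isPi_singleton_iff Nat.prime_two).2 h1) hX
  obtain ⟨c, hc, e⟩ := sylowOf_subJ hP hY ((isPi_singleton_iff Nat.prime_two).2 h2)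
  have := (sylowOf_iff Nat.prime_two).1 hP
  exact ⟨P, this.2.1, hXP, this.1, c, hc, e⟩

theorem JS.frattini (h : JS θ) {M : Subgroup G} (hJ : θ.range ≤ M) {g : G}
    (hg : cj g θ.range ≤ M) : ∃ c ∈ M, c * g ∈ 𝒩(θ.range) := by
  obtain ⟨P, hP, h1, -, c, hc, e⟩ := exists_conj_le hJ hg two_range (isPGroup_cj.2 two_range)
  exact ⟨c, hc, h.weak hP h1 (by rwa [cj_mul])⟩

theorem JS.card_eq (h : JS θ) {s t : Finset ι} (hc : IsConj (zs θ s) (zs θ t)) :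
    s.card = t.card := by
  obtain ⟨g, hg⟩ := isConj_iff.1 hc
  obtain ⟨c, hc, hn⟩ := h.frattini (M := 𝒞[zs θ t]) (g := g)
    (fun x hx => mem_cent1.2 (zs_comm t x hx).symm) (by
      rw [← hg, ← cj_cent1]
      exact cj_mono g fun x hx => mem_cent1.2 (zs_comm s x hx).symm)
  refine card_conj_zs h.1 hn ?_
  calc c * g * zs θ s * (c * g)⁻¹ = c * (g * zs θ s * g⁻¹) * c⁻¹ := by group
    _ = _ := by rw [hg, mem_cent1.1 hc, mul_inv_cancel_right]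

/-- A conjugate of `V` in a 2-group over `J` is conjugate to `V` in `N(J)`. -/
theorem JS.conj_VV (h : JS θ) {P : Subgroup G} (hP : IsPGroup 2 P) (hJ : θ.range ≤ P) {g : G}
    (hg : cj g (VV θ) ≤ P) : ∃ n ∈ 𝒩(θ.range), cj n (VV θ) = cj g (VV θ) ∧
      ∃ B : ι → Subgroup D8, (∀ i, B i = V0 ∨ B i = E0) ∧ cj g (VV θ) = pr θ B := by
  have hV : ∀ _ : ι, V0 = V0 ∨ V0 = E0 := fun _ => Or.inl rfl
  have a1 : ∀ x ∈ cj g (VV θ), x * x = 1 := fun x hx => by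
    obtain ⟨y, hy, rfl⟩ := mem_cj'.1 hx
    rw [conj_mul, pr_sq hV y hy]; simp
  have a2 : ∀ x ∈ cj g (VV θ), ∀ y ∈ cj g (VV θ), x * y = y * x := fun x hx x' hx' => by
    obtain ⟨y, hy, rfl⟩ := mem_cj'.1 hx
    obtain ⟨y', hy', rfl⟩ := mem_cj'.1 hx'
    rw [conj_mul, conj_mul, pr_comm hV y hy y' hy']
  have a3 : 4 ^ Fintype.card ι ≤ Nat.card (cj g (VV θ)) := by rw [card_cj, card_pr_four h.1 hV]
  obtain ⟨B, hB, e⟩ := eq_pr h.1 (h.le_range hP hJ hg a1 a2 a3) a1 a2 a3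
  obtain ⟨c, hc, hn⟩ := h.frattini (M := 𝒩(cj g (VV θ))) (g := g) (e ▸ range_le_norm_pr hB)
    (by rw [← cj_normalizer]; exact cj_mono g (range_le_norm_pr hV))
  exact ⟨c * g, hn, by rw [cj_mul, cj_eq_of_mem_norm hc], B, hB, e⟩

end Cfsg.Agent.ALT
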