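import Cfsg.Agent.ALT.KT2
import Cfsg.Agent.ALT.Classes
import Cfsg.Agent.NG.CaseI1

/-!
Kondo's count of the classes of involutions, from the facts on `C(t)`.
-/

set_option autoImplicit false
set_option linter.unusedSectionVars false

namespace Cfsg.Agent.ALT

open Subgroup Cfsg.Agent.H49

variable {G : Type*} [Group G] [Finite G] {ι : Type*} [Fintype ι] [DecidableEq ι]

/-- The facts on `H = C(t)`. -/
structure Kondo (θ : (ι → D8) →* G) (K₁ K₂ : Subgroup G) : Prop extends KV θ where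
  le1 : K₁ ≤ 𝒞[zs θ Finset.univ]
  idx1 : K₁.relIndex 𝒞[zs θ Finset.univ] = 2
  V_le : VV θ ≤ K₁
  e_not : ∀ i, at1 θ i e0 ∉ K₁
  invol : ∀ x ∈ K₁, x * x = 1 → ∃ v ∈ VV θ, IsConj x v
  le2 : K₂ ≤ 𝒞[zs θ Finset.univ]
  idx2 : K₂.relIndex 𝒞[zs θ Finset.univ] = 2
  v_not : ∃ i, at1 θ i v0 ∉ K₂

variable {θ : (ι → D8) →* G} {K₁ K₂ : Subgroup G}

theorem norm_of_relIndex_two {K H : Subgroup G} (h : K ≤ H) (h2 : K.relIndex H = 2) : H ≤ 𝒩(K) := by
  have : (K.subgroupOf H).Normal := normal_of_index_eq_two h2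
  exact (normal_subgroupOf_iff_le_normalizer h).1 this

theorem range_le_cent : θ.range ≤ 𝒞[zs θ Finset.univ] :=
  fun x hx => mem_cent1.2 (zs_comm _ x hx).symm

namespace Kondo

theorem weak (k : Kondo θ K₁ K₂) {g : G} (hg : cj g (VV θ) ≤ 𝒞[zs θ Finset.univ]) :
    ∃ c ∈ 𝒞[zs θ Finset.univ], c * g ∈ 𝒩(VV θ) := by
  obtain ⟨P, hP, h1, -, c, hc, e⟩ := exists_conj_le range_le_cent hg two_range
    (isPGroup_cj.2 (two_range.to_le (pr_le _)))
  rw [cj_cj] at e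
  obtain ⟨n, hn, e1, B, hB, e2⟩ := k.js.conj_VV hP h1 e
  have h3 : pr θ B ≤ K₁ := by
    rw [← e2, ← e1]
    exact cj_le_of_mem_norm k.V_le (norm_of_relIndex_two k.le1 k.idx1 (norm_le_cent k.js.1 hn))
  have h4 : B = fun _ => V0 := funext fun i => (hB i).resolve_right fun e' => k.e_not i (h3
    (mem_pr.2 ⟨_, fun j => by
      by_cases e : j = i
      · subst e; rw [e']; simp [mem_E0]
      · simp [e], rfl⟩))
  exact ⟨c, hc, mem_norm_iff_cj.2 (by rw [e2, h4])⟩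

theorem exists_norm (k : Kondo θ K₁ K₂) (res : pResidual 2 G = ⊤)
    (odd : ¬ 2 ∣ 𝒞[zs θ Finset.univ].index) : ∃ g ∈ 𝒩(VV θ), g ∉ 𝒞[zs θ Finset.univ] := by
  obtain ⟨i, hi⟩ := k.v_not
  have m : at1 θ i v0 ∈ VV θ := at1_mem (by decide)
  obtain ⟨g, h1, h2⟩ := NG.CI.ext_transfer (Q := VV θ) (VV_sq _ m) (res ▸ mem_top _) odd k.le2
    k.idx2 (two_range.to_le (pr_le _)) fun q hq => VV_comm q hq _ m
  obtain ⟨c, hc, hn⟩ := k.weak (g := g⁻¹) h2
  refine ⟨_, hn, fun h => hi ?_⟩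
  have hg : g ∈ 𝒞[zs θ Finset.univ] := by simpa using mul_mem (inv_mem h) hc
  simpa [mul_assoc] using conj_mem_of_norm (norm_of_relIndex_two k.le2 k.idx2) hg h1

theorem conj_zs (k : Kondo θ K₁ K₂) (res : pResidual 2 G = ⊤)
    (odd : ¬ 2 ∣ 𝒞[zs θ Finset.univ].index) {x : G} (hx : x * x = 1) : ∃ s, IsConj x (zs θ s) := by
  obtain ⟨g, hg, hn⟩ := k.exists_norm res odd
  obtain ⟨a, h1, -⟩ := NG.CI.ext_transfer (Q := ⊥) hx (res ▸ mem_top _) odd k.le1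
    k.idx1 IsPGroup.of_bot fun q hq => by rw [mem_bot.1 hq]; simp
  obtain ⟨v, hv, c⟩ := k.invol _ h1 (by
    rw [show a⁻¹ * x * a * (a⁻¹ * x * a) = a⁻¹ * (x * x) * a by group, hx]; simp)
  obtain ⟨s, hs⟩ := k.toKV.conj_zs hg hn v hv
  exact ⟨s, ((isConj_iff.2 ⟨a⁻¹, by simp⟩).trans c).trans hs⟩

theorem card_classes (k : Kondo θ K₁ K₂) (res : pResidual 2 G = ⊤)
    (odd : ¬ 2 ∣ 𝒞[zs θ Finset.univ].index) :
    Nat.card {c : ConjClasses G // ∃ x ∈ c.carrier, orderOf x = 2} = Fintype.card ι := by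
  have : ∀ m : Fin (Fintype.card ι), ∃ s : Finset ι, s.card = m + 1 := fun m => by
    obtain ⟨s, -, hs⟩ := Finset.exists_subset_card_eq (s := (Finset.univ : Finset ι)) (n := m + 1)
      m.2
    exact ⟨s, hs⟩
  choose σ hσ using this
  have ne : ∀ s : Finset ι, zs θ s = 1 ↔ s.card = 0 := fun s => by
    rw [Finset.card_eq_zero]
    exact ⟨fun e => zs_inj k.js.1 (e.trans zs_empty.symm), fun e => e ▸ zs_empty⟩
  rw [card_classes_eq (fun m => zs θ (σ m))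
    (fun m => ⟨VV_sq _ (zs_mem_VV _), fun e => by simpa [hσ] using (ne _).1 e⟩)
    (fun a b c => Fin.ext (by simpa [hσ] using k.js.card_eq c)) fun x hx x1 => ?_]
  · simp
  obtain ⟨s, hs⟩ := k.conj_zs res odd hx
  have h1 : s.card ≠ 0 := fun e => x1 (isConj_one_left.1 ((ne s).2 e ▸ hs))
  have h2 := s.card_le_univ
  exact ⟨⟨s.card - 1, by omega⟩, hs.trans (k.toKV.conj_of_card (by rw [hσ]; simp; omega))⟩

end Kondo

end Cfsg.Agent.ALT
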