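import Cfsg.Agent.ALT.KInv
import Cfsg.Agent.ALT.KMain
import Cfsg.Agent.H18.Transfer2

/-!
The centralizer of an involution of support `4 n` in `A_{4 n + r}`, `r = 2, 3`, satisfies `Kondo`.
-/

set_option autoImplicit false
set_option linter.unusedSectionVars false

namespace Cfsg.Agent.ALT

open Subgroup Equiv Equiv.Perm Cfsg.Agent.H49

variable {ι : Type*} [Fintype ι] [DecidableEq ι] {ρ : Type*} [Fintype ρ] [DecidableEq ρ]

/-- The model of the centralizer. -/
def HH (ι ρ : Type*) [Fintype ι] [DecidableEq ι] [Fintype ρ] [DecidableEq ρ] :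
    Subgroup (Perm (ι × ZMod 4) × Perm ρ) where
  carrier := {g | g.1 * aa ι = aa ι * g.1 ∧ sign g.1 = sign g.2}
  one_mem' := ⟨by simp, by simp⟩
  mul_mem' := fun {a b} ha hb => ⟨(Commute.mul_left ha.1 hb.1 : Commute (a.1 * b.1) _), by
    simp [ha.2, hb.2]⟩
  inv_mem' := fun {a} ha => ⟨(Commute.inv_left ha.1 : Commute a.1⁻¹ _), by simp [ha.2]⟩

/-- A section of the sign. -/
def sg {s : Perm ρ} (hs : s * s = 1) : ℤˣ →* Perm ρ where
  toFun u := if u = 1 then 1 else s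
  map_one' := by simp
  map_mul' u v := by
    rcases Int.units_eq_one_or u with rfl | rfl <;> rcases Int.units_eq_one_or v with rfl | rfl <;>
      simp [hs]

theorem sign_sg {s : Perm ρ} (hs : s * s = 1) (h : sign s = -1) (u : ℤˣ) : sign (sg hs u) = u := by
  rcases Int.units_eq_one_or u with rfl | rfl <;> simp [sg, h]

/-- The product of dihedral groups in the model. -/
def th {s : Perm ρ} (hs : s * s = 1) (h : sign s = -1) : (ι → D8) →* HH ι ρ :=
  (blk.prod ((sg hs).comp (sign.comp blk))).codRestrict _ fun d =>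
    ⟨blk_aa d, (sign_sg hs h _).symm⟩

theorem kondo_of_model [Nonempty ι] {G : Type*} [Group G] [Finite G] {t : G} (ht : t ≠ 1)
    (χ : HH ι ρ ≃* 𝒞[t]) {s : Perm ρ} (hs : s * s = 1) (h : sign s = -1)
    (h3 : ∀ σ : Perm ρ, sign σ = 1 → σ ^ 3 = 1)
    (hc : ∀ σ : Perm ρ, sign σ = 1 → σ * s = s * σ → σ = 1) :
    ∃ (θ : (ι → D8) →* G) (K₁ K₂ : Subgroup G), Kondo θ K₁ K₂ ∧ zs θ Finset.univ = t := by
  let φ : HH ι ρ →* G := 𝒞[t].subtype.comp χ.toMonoidHom
  have φi : Function.Injective φ := Subtype.val_injective.comp χ.injective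
  have φs : ∀ x ∈ 𝒞[t], ∃ y, φ y = x := fun x hx =>
    ⟨χ.symm ⟨x, hx⟩, congrArg Subtype.val (χ.apply_symm_apply _)⟩
  have φm : ∀ y, φ y ∈ 𝒞[t] := fun y => (χ y).2
  let θ := φ.comp (th hs h)
  have p1 : ∀ {x y : HH ι ρ}, φ x = φ y → x.1.1 = y.1.1 := fun e => by rw [φi e]
  have p2 : ∀ {x y : HH ι ρ}, φ x = φ y → x.1.2 = y.1.2 := fun e => by rw [φi e]
  have θi : Function.Injective θ := fun a b e => blk_inj (p1 e)
  have cjg : ∀ (g : Perm (ι × ZMod 4)), g * aa ι = aa ι * g → ∃ x : HH ι ρ, x.1.1 = g ∧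
      ∀ y d, y.1.1 * g = g * blk d → y.1.2 = sg hs (sign y.1.1) → φ y * φ x = φ x * θ d :=
    fun g hg => ⟨⟨(g, sg hs (sign g)), hg, (sign_sg hs h _).symm⟩, rfl, fun y d e1 e2 => by
      show _ = _ * φ _
      rw [← map_mul, ← map_mul]
      refine congrArg φ (Subtype.ext (Prod.ext e1 ?_))
      show y.1.2 * sg hs (sign g) = sg hs (sign g) * sg hs (sign (blk d))
      rw [e2, ← map_mul, ← map_mul, ← map_mul, ← map_mul, e1]⟩
  have perm : ∀ π : Perm ι, ∃ x, ∀ d, φ x * θ d * (φ x)⁻¹ = θ (d ∘ π.symm) := fun π => by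
    obtain ⟨x, -, hx⟩ := cjg (prodCongr π (Equiv.refl _)) (conj_blk π fun _ => z0)
    refine ⟨x, fun d => mul_inv_eq_iff_eq_mul.2 (hx (th hs h _) d (conj_blk π d).symm rfl).symm⟩
  have tz : zs θ Finset.univ = t := by
    obtain ⟨y, hy⟩ := φs t (self_mem_cent1 t)
    have c : ∀ x, φ (y * x) = φ (x * y) := fun x => by
      rw [map_mul, map_mul, hy, mem_cent1.1 (φm x)]
    obtain ⟨d, hd⟩ := eq_blk (w := y.1.1) fun i => p1 (c (th hs h _))
    have cd : ∀ i, d i = 1 ∨ d i = z0 := fun i =>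
      (by decide : ∀ u : D8, (∀ v, u * v = v * u) → u = 1 ∨ u = z0) _ fun v => by
        have : y.1.1 * blk (Pi.mulSingle i v) = blk (Pi.mulSingle i v) * y.1.1 :=
          p1 (c (th hs h _))
        rw [hd, ← map_mul, ← map_mul] at this
        simpa using congrFun (blk_inj this) i
    have s1 : sign y.1.1 = 1 := by
      rw [hd]
      exact sign_blk_V fun i => by rcases cd i with e | e <;> rw [e] <;> decide
    have s2 : y.1.2 = 1 := hc _ (y.2.2 ▸ s1) (by
      obtain ⟨i⟩ := ‹Nonempty ι›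
      have : y.1.2 * sg hs (sign (blk _)) = sg hs (sign (blk _)) * y.1.2 :=
        p2 (c (th hs h (Pi.mulSingle i e0)))
      rwa [sign_blk_e] at this)
    have e : t = θ d := by
      rw [← hy]
      refine congrArg φ (Subtype.ext (Prod.ext hd ?_))
      show _ = sg hs (sign (blk d))
      rw [← hd, s1, s2, map_one]
    have const : ∀ i j, d i = d j := fun i j => by
      obtain ⟨x, hx⟩ := perm (swap i j)
      have := hx d
      rw [← e, mem_cent1.1 (φm x), mul_inv_cancel_right, e] at this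
      simpa using congrFun (θi this) i
    obtain ⟨i, hi⟩ : ∃ i, d i ≠ 1 := by
      by_contra hn
      push Not at hn
      exact ht (by rw [e, show d = 1 from funext hn, map_one])
    rw [e, zs]
    exact congrArg θ (funext fun j => by simp [const j i, (cd i).resolve_left hi])
  have idx : ∀ ε : HH ι ρ →* ℤˣ, (∃ y, ε y = -1) → (ε.ker.map φ).relIndex 𝒞[t] = 2 := by
    rintro ε ⟨y, hy⟩
    rw [← H18.index_ker_of_neg (V := ε.comp χ.symm.toMonoidHom) (u := χ y) (by simpa using hy),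
      relIndex]
    congr 1
    ext x
    obtain ⟨x, rfl⟩ := χ.surjective x
    exact (mem_map_iff_mem φi (x := x)).trans (by simp)
  have le : ∀ K : Subgroup (HH ι ρ), K.map φ ≤ 𝒞[t] := by
    rintro K _ ⟨y, -, rfl⟩
    exact φm y
  obtain ⟨ε, hε⟩ := exists_sign_pairs (ι := ι)
  let f : HH ι ρ →* Perm (ι × ZMod 4) := (MonoidHom.fst _ _).comp (HH ι ρ).subtype
  let ε₂ := ε.comp (f.codRestrict _ fun y => mem_centralizer_singleton_iff.2 y.2.1)
  obtain ⟨i₀⟩ := ‹Nonempty ι›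
  have v2 : ε₂ (th hs h (Pi.mulSingle i₀ v0)) = -1 := hε i₀ _ rfl
  refine ⟨θ, (sign.comp f).ker.map φ, ε₂.ker.map φ,
    { js := JS.of_three θi fun x hx => ?_
      wt := fun x hx d d' hd hd' e => ?_
      perm := fun π => (perm π).elim fun x hx => ⟨_, hx⟩
      le1 := tz ▸ le _
      idx1 := tz ▸ idx _ ⟨th hs h (Pi.mulSingle i₀ e0), sign_blk_e i₀⟩
      V_le := fun v hv => ?_
      e_not := fun i hi => absurd ((sign_blk_e i).symm.trans ((mem_map_iff_mem φi).1 hi))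
        (by decide)
      invol := ?_
      le2 := tz ▸ le _
      idx2 := tz ▸ idx _ ⟨_, v2⟩
      v_not := ⟨i₀, fun hi => absurd (v2.symm.trans ((mem_map_iff_mem φi).1 hi)) (by decide)⟩ }, tz⟩
  · obtain ⟨y, rfl⟩ := φs x (by
      rw [← tz]; exact mem_cent1.2 (mul_inv_eq_iff_eq_mul.1 (fx_zs fun i _ => hx i)))
    obtain ⟨d, hd⟩ := eq_blk (w := y.1.1) fun i => p1 (x := y * th hs h _) (y := th hs h _ * y) (by
      rw [map_mul, map_mul]; exact mul_inv_eq_iff_eq_mul.1 (hx i))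
    refine ⟨d, ?_⟩
    have e : ((th hs h d)⁻¹ * y).1.1 = 1 := by
      show (blk d)⁻¹ * y.1.1 = 1
      rw [hd, inv_mul_cancel]
    show ((φ _)⁻¹ * _) ^ 3 = 1
    rw [← map_inv, ← map_mul, ← map_pow, ← map_one φ]
    refine congrArg φ (Subtype.ext (Prod.ext ?_ ?_))
    · show ((th hs h d)⁻¹ * y).1.1 ^ 3 = 1
      rw [e, one_pow]
    · exact h3 _ (by rw [← ((th hs h d)⁻¹ * y).2.2, e, map_one])
  · obtain ⟨y, rfl⟩ := φs x (by rw [← tz]; exact mem_cent1.2 (mul_inv_eq_iff_eq_mul.1 hx))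
    have : y.1.1 * blk d * y.1.1⁻¹ = blk d' := p1 (x := y * th hs h d * y⁻¹) (y := th hs h d') (by
      rw [map_mul, map_mul, map_inv]; exact e)
    have c := card_support_conj (σ := y.1.1) (τ := blk d)
    rw [this, card_support_blk hd, card_support_blk hd'] at c
    omega
  · obtain ⟨d, hd, rfl⟩ := mem_pr.1 hv
    exact ⟨th hs h d, sign_blk_V hd, rfl⟩
  · rintro _ ⟨y, hy, rfl⟩ h2
    have e : y * y = 1 := φi (by rw [map_mul, h2, map_one])
    have s1 : sign y.1.1 = 1 := hy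
    obtain ⟨g, hg, d, hd, e1⟩ := exists_conj_blk (congrArg (·.1.1) e) s1 y.2.1
    obtain ⟨x, -, hx⟩ := cjg g hg
    have s2 : y.1.2 = 1 := by
      have a : y.1.2 * y.1.2 = 1 := congrArg (·.1.2) e
      have b := h3 _ (y.2.2 ▸ s1)
      rwa [pow_succ, pow_two, a, one_mul] at b
    refine ⟨θ d, mem_pr.2 ⟨d, hd, rfl⟩, isConj_iff.2 ⟨(φ x)⁻¹, ?_⟩⟩
    rw [inv_inv, mul_assoc, hx y d e1 (by rw [s1, s2, map_one]), inv_mul_cancel_left]

end Cfsg.Agent.ALT
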