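import Cfsg.Agent.ALT.KT

/-!
The product of dihedral groups acting on blocks of four points.
-/

set_option autoImplicit false
set_option linter.unusedSectionVars false

namespace Cfsg.Agent.ALT

open Subgroup Equiv Equiv.Perm

/-- The action of `D8` on the corners of a square. -/
def act : D8 → ZMod 4 → ZMod 4
  | .r i, x => x + i
  | .sr i, x => -(x + i)

theorem act_one : ∀ x, act 1 x = x := by decide
theorem act_mul : ∀ a b x, act (a * b) x = act a (act b x) := by decide
theorem act_z0 : ∀ x, act z0 x = x + 2 := by decide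
theorem act_inj : ∀ a b : D8, (∀ x, act a x = act b x) → a = b := by decide
theorem act_V0 : ∀ u ∈ V0, u ≠ 1 → ∀ x, act u x ≠ x := by decide
theorem act_surj : ∀ f : ZMod 4 → ZMod 4, (∀ x y, f x = f y → x = y) →
    (∀ x, f (x + 2) = f x + 2) → ∃ d, ∀ x, f x = act d x := by decide +kernel
theorem zmod4 : ∀ x : ZMod 4, x = 0 ∨ x = 1 ∨ x = 2 ∨ x = 3 := by decide

/-- The action as a homomorphism. -/
def rho : D8 →* Perm (ZMod 4) where
  toFun d := ⟨act d, act d⁻¹, fun x => by rw [← act_mul, inv_mul_cancel, act_one],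
    fun x => by rw [← act_mul, mul_inv_cancel, act_one]⟩
  map_one' := Equiv.ext act_one
  map_mul' a b := Equiv.ext (act_mul a b)

theorem sign_V0 : ∀ u ∈ V0, sign (rho u) = 1 := by decide
theorem sign_e0 : sign (rho e0) = -1 := by decide

variable {ι : Type*} [Fintype ι] [DecidableEq ι]

/-- The blockwise action. -/
def blk : (ι → D8) →* Perm (ι × ZMod 4) where
  toFun d := prodCongrRight fun i => rho (d i)
  map_one' := Equiv.ext fun p => Prod.ext rfl (act_one p.2)
  map_mul' a b := Equiv.ext fun p => Prod.ext rfl (act_mul (a p.1) (b p.1) p.2)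

theorem blk_apply (d : ι → D8) (i : ι) (x : ZMod 4) : blk d (i, x) = (i, act (d i) x) := rfl

theorem blk_inj : Function.Injective (blk : (ι → D8) →* _) := fun _ _ e =>
  funext fun i => act_inj _ _ fun x => congrArg Prod.snd (Equiv.congr_fun e (i, x))

theorem sign_blk (d : ι → D8) : sign (blk d) = ∏ i, sign (rho (d i)) :=
  sign_prodCongrRight fun i => rho (d i)

theorem sign_blk_V {d : ι → D8} (h : ∀ i, d i ∈ V0) : sign (blk d) = 1 := by
  rw [sign_blk]; exact Finset.prod_eq_one fun i _ => sign_V0 _ (h i)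

theorem sign_blk_e (i : ι) : sign (blk (Pi.mulSingle i e0 : ι → D8)) = -1 := by
  rw [sign_blk, Finset.prod_eq_single i (fun j _ h => by simp [h]) (by simp)]
  simpa using sign_e0

/-- The fixed point free involution centralized by everything. -/
def aa (ι : Type*) [Fintype ι] [DecidableEq ι] : Perm (ι × ZMod 4) := blk fun _ => z0

theorem aa_apply (p : ι × ZMod 4) : aa ι p = (p.1, p.2 + 2) := Prod.ext rfl (act_z0 _)

theorem aa_ne (p : ι × ZMod 4) : aa ι p ≠ p := fun e =>
  (by decide : ∀ x : ZMod 4, x + 2 ≠ x) _ (congrArg Prod.snd ((aa_apply p).symm.trans e))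

theorem aa_aa (p : ι × ZMod 4) : aa ι (aa ι p) = p := by
  rw [aa_apply, aa_apply]
  exact Prod.ext rfl ((by decide : ∀ x : ZMod 4, x + 2 + 2 = x) _)

theorem blk_aa (d : ι → D8) : blk d * aa ι = aa ι * blk d := by
  rw [aa, ← map_mul, ← map_mul]
  exact congrArg _ (funext fun i => (z0_comm _).symm)

theorem card_support_blk {d : ι → D8} (h : ∀ i, d i ∈ V0) : (blk d).support.card = wt d * 4 := by
  have : (blk d).support = (Finset.univ.filter fun i => d i ≠ 1) ×ˢ Finset.univ := by
    ext ⟨i, x⟩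
    simp only [mem_support, blk_apply, Finset.mem_product, Finset.mem_filter, Finset.mem_univ,
      true_and, and_true, ne_eq, Prod.mk.injEq]
    exact ⟨fun h1 e => h1 (by rw [e, act_one]), fun h1 => act_V0 _ (h i) h1 x⟩
  rw [this, Finset.card_product]; rfl

theorem eq_blk {w : Perm (ι × ZMod 4)}
    (h : ∀ i, w * blk (Pi.mulSingle i z0) = blk (Pi.mulSingle i z0) * w) : ∃ d, w = blk d := by
  have h1 : ∀ i x, w (i, x + 2) = blk (Pi.mulSingle i z0 : ι → D8) (w (i, x)) := fun i x => by
    have := Equiv.congr_fun (h i) (i, x)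
    simpa [blk_apply, act_z0] using this
  have h2 : ∀ i x, (w (i, x)).1 = i := fun i x => by
    by_contra hne
    have := h1 i x
    rw [← Prod.mk.eta (p := w (i, x)), blk_apply, Pi.mulSingle_eq_of_ne hne, act_one,
      Prod.mk.eta] at this
    exact (by decide : ∀ x : ZMod 4, x + 2 ≠ x) _ (congrArg Prod.snd (w.injective this))
  have h3 : ∀ i, ∃ d, ∀ x, (w (i, x)).2 = act d x := fun i => act_surj _
    (fun x y e => congrArg Prod.snd (w.injective (Prod.ext ((h2 i x).trans (h2 i y).symm) e)))
    fun x => by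
      rw [h1, ← Prod.mk.eta (p := w (i, x)), blk_apply, h2, Pi.mulSingle_eq_same, act_z0]
  choose d hd using h3
  exact ⟨d, Equiv.ext fun ⟨i, x⟩ => Prod.ext (h2 i x) (hd i x)⟩

theorem conj_blk (π : Perm ι) (d : ι → D8) :
    (prodCongr π (Equiv.refl _) : Perm (ι × ZMod 4)) * blk d =
      blk (d ∘ π.symm) * prodCongr π (Equiv.refl _) :=
  Equiv.ext fun ⟨i, x⟩ => by simp [blk_apply]

/-- The action on the pairs. -/
theorem exists_sign_pairs : ∃ ε : centralizer {aa ι} →* ℤˣ, ∀ (i : ι) (w : centralizer {aa ι}),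
    w.1 = blk (Pi.mulSingle i v0) → ε w = -1 := by
  let π : ι × ZMod 4 → ι × Bool := fun p => (p.1, decide (p.2 = 1 ∨ p.2 = 3))
  let s : ι × Bool → ι × ZMod 4 := fun q => (q.1, if q.2 then 1 else 0)
  have h1 : ∀ q, π (s q) = q := fun ⟨i, b⟩ => Prod.ext rfl (by cases b <;> rfl)
  have h2 : ∀ p, s (π p) = p ∨ s (π p) = aa ι p := fun ⟨i, x⟩ => by
    rw [aa_apply]
    rcases zmod4 x with rfl | rfl | rfl | rfl
    exacts [Or.inl rfl, Or.inl rfl, Or.inr rfl, Or.inr rfl]
  have h3 : ∀ p, π (aa ι p) = π p := fun ⟨i, x⟩ => by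
    rw [aa_apply]
    rcases zmod4 x with rfl | rfl | rfl | rfl <;> rfl
  let _ : MulAction (centralizer {aa ι}) (ι × Bool) :=
    { smul := fun w q => π (w.1 (s q))
      one_smul := h1
      mul_smul := fun a b q => by
        show π (a.1 (b.1 (s q))) = π (a.1 (s (π (b.1 (s q)))))
        rcases h2 (b.1 (s q)) with e | e <;> rw [e]
        rw [← h3]
        exact congrArg π (Equiv.congr_fun (mem_centralizer_singleton_iff.1 a.2) _).symm }
  refine ⟨sign.comp (MulAction.toPermHom _ (ι × Bool)), fun i w hw => ?_⟩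
  have : MulAction.toPermHom _ (ι × Bool) w = swap (i, false) (i, true) := by
    refine Equiv.ext fun ⟨j, b⟩ => ?_
    show π (w.1 (s (j, b))) = _
    rw [hw]
    by_cases e : j = i
    · subst e
      cases b
      · rw [swap_apply_left]
        show π (j, act (Pi.mulSingle (M := fun _ => D8) j v0 j) 0) = _
        rw [Pi.mulSingle_eq_same]; rfl
      · rw [swap_apply_right]
        show π (j, act (Pi.mulSingle (M := fun _ => D8) j v0 j) 1) = _
        rw [Pi.mulSingle_eq_same]; rfl
    · rw [swap_apply_of_ne_of_ne (by simp [e]) (by simp [e])]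
      show π (j, act (Pi.mulSingle (M := fun _ => D8) i v0 j) _) = _
      rw [Pi.mulSingle_eq_of_ne e, act_one]
      exact h1 (j, b)
  rw [MonoidHom.comp_apply, this, sign_swap (by simp)]

end Cfsg.Agent.ALT
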