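import Cfsg.Agent.ALT.KD

/-!
Transvections on `V`.
-/

set_option autoImplicit false
set_option linter.unusedSectionVars false

namespace Cfsg.Agent.ALT

open Subgroup Cfsg.Agent.H49

variable {G : Type*} [Group G] [Finite G] {ι : Type*} [Fintype ι] [DecidableEq ι]

/-- `x` fixes `v` under conjugation. -/
def Fx (x v : G) : Prop := x * v * x⁻¹ = v

/-- `x` induces on `V` a transvection with centre `c`. -/
structure Tv (θ : (ι → D8) →* G) (x c : G) : Prop where
  norm : x ∈ 𝒩(VV θ)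
  mem : c ∈ VV θ
  ne : c ≠ 1
  act : ∀ v ∈ VV θ, x * v * x⁻¹ = v ∨ x * v * x⁻¹ = v * c
  ex : ∃ v ∈ VV θ, ¬ Fx x v

variable {θ : (ι → D8) →* G} {x c : G}

theorem VV_sq : ∀ x ∈ VV θ, x * x = 1 := pr_sq fun _ => Or.inl rfl
theorem VV_comm : ∀ x ∈ VV θ, ∀ y ∈ VV θ, x * y = y * x := pr_comm fun _ => Or.inl rfl

theorem at1_mem {i : ι} {u : D8} (h : u ∈ V0) : at1 θ i u ∈ VV θ :=
  mem_pr.2 ⟨_, fun j => by
    by_cases e : j = i
    · subst e; simpa using h
    · simp [e], rfl⟩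

theorem z_mem (i : ι) : at1 θ i z0 ∈ VV θ := at1_mem (by decide)

theorem Fx.one (x : G) : Fx x 1 := by simp [Fx]

theorem Fx.mul {u v : G} (h1 : Fx x u) (h2 : Fx x v) : Fx x (u * v) := by
  rw [Fx, ← conj_mul, h1, h2]

theorem fx_conj {g v : G} : Fx (g * x * g⁻¹) (g * v * g⁻¹) ↔ Fx x v := by
  rw [Fx, Fx, show g * x * g⁻¹ * (g * v * g⁻¹) * (g * x * g⁻¹)⁻¹ = g * (x * v * x⁻¹) * g⁻¹ by group,
    mul_left_inj, mul_right_inj]

theorem fx_map {d : ι → D8} (h : ∀ k, Fx x (at1 θ k (d k))) : Fx x (θ d) := by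
  have : ∀ s : Finset ι, Fx x (θ fun i => if i ∈ s then d i else 1) := fun s => by
    induction s using Finset.induction_on with
    | empty => simpa [← Pi.one_def] using Fx.one x
    | insert i s hi ih =>
      have := (h i).mul ih
      rw [at1, ← map_mul] at this
      convert this using 2
      funext j
      by_cases e : j = i
      · subst e; simp [hi]
      · simp [e]
  simpa using this Finset.univ

theorem Tv.eq (h : Tv θ x c) {v : G} (hv : v ∈ VV θ) (hf : ¬ Fx x v) : x * v * x⁻¹ = v * c :=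
  (h.act v hv).resolve_left hf

theorem Tv.fx (h : Tv θ x c) : Fx x c := by
  by_contra hf
  have := h.eq h.mem hf
  rw [VV_sq c h.mem, conj_eq_one_iff] at this
  exact h.ne this

theorem Tv.mul_iff (h : Tv θ x c) {u v : G} (hu : u ∈ VV θ) (hv : v ∈ VV θ) :
    Fx x (u * v) ↔ (Fx x u ↔ Fx x v) := by
  by_cases h1 : Fx x u <;> by_cases h2 : Fx x v <;> simp only [h1, h2, iff_true, iff_false,
    not_true]
  · exact h1.mul h2
  · rw [Fx, ← conj_mul, h1, h.eq hv h2, mul_right_inj, mul_eq_left]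
    exact h.ne
  · rw [Fx, ← conj_mul, h2, h.eq hu h1, mul_left_inj, mul_eq_left]
    exact h.ne
  · rw [Fx, ← conj_mul, h.eq hu h1, h.eq hv h2, mul_assoc, ← mul_assoc c, VV_comm c h.mem v hv,
      mul_assoc, VV_sq c h.mem, mul_one]

theorem Tv.conj (h : Tv θ x c) {g : G} (hg : g ∈ 𝒩(VV θ)) : Tv θ (g * x * g⁻¹) (g * c * g⁻¹) where
  norm := mul_mem (mul_mem hg h.norm) (inv_mem hg)
  mem := conj_mem_of_norm le_rfl hg h.mem
  ne := fun e => h.ne (conj_eq_one_iff.1 e)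
  act := fun v hv => by
    have e : g * x * g⁻¹ * v * (g * x * g⁻¹)⁻¹ = g * (x * (g⁻¹ * v * g) * x⁻¹) * g⁻¹ := by group
    refine (h.act _ (conj_mem_of_norm' le_rfl hg hv)).imp (fun e' => ?_) fun e' => ?_ <;>
      rw [e, e'] <;> group
  ex := by
    obtain ⟨v, hv, hf⟩ := h.ex
    exact ⟨_, conj_mem_of_norm le_rfl hg hv, fun e => hf (fx_conj.1 e)⟩

theorem conj_e (i : ι) (d : ι → D8) : at1 θ i e0 * θ d * (at1 θ i e0)⁻¹ =
    θ (Function.update d i (e0 * d i * e0⁻¹)) := by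
  rw [at1, ← map_inv, ← map_mul, ← map_mul]
  congr 1
  funext j
  by_cases e : j = i
  · subst e; simp
  · simp [e]

theorem fx_e (hθ : Function.Injective θ) {i : ι} {d : ι → D8} (hd : d i ∈ V0) :
    Fx (at1 θ i e0) (θ d) ↔ d i = 1 ∨ d i = z0 := by
  rw [Fx, conj_e, hθ.eq_iff, Function.update_eq_self_iff]
  exact (by decide : ∀ u ∈ V0, e0 * u * e0⁻¹ = u ↔ u = 1 ∨ u = z0) _ hd

theorem fx_e_z (hθ : Function.Injective θ) (i j : ι) : Fx (at1 θ i e0) (at1 θ j z0) := by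
  have : (Pi.mulSingle j z0 : ι → D8) i = 1 ∨ (Pi.mulSingle j z0 : ι → D8) i = z0 := by
    by_cases e : i = j
    · subst e; simp
    · simp [e]
  exact (fx_e hθ (by rcases this with e | e <;> rw [e] <;> decide)).2 this

theorem tv_e (hθ : Function.Injective θ) (i : ι) : Tv θ (at1 θ i e0) (at1 θ i z0) where
  norm := range_le_norm_pr (fun _ => Or.inl rfl) ⟨_, rfl⟩
  mem := z_mem i
  ne := at1_ne hθ i z0_ne
  act := fun v hv => by
    obtain ⟨d, hd, rfl⟩ := mem_pr.1 hv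
    rw [conj_e, at1, ← map_mul]
    refine ((by decide : ∀ u ∈ V0, e0 * u * e0⁻¹ = u ∨ e0 * u * e0⁻¹ = u * z0) _ (hd i)).imp
      (fun e => by rw [e, Function.update_eq_self]) fun e => ?_
    congr 1
    funext j
    by_cases e' : j = i
    · subst e'; simpa using e
    · simp [e']
  ex := ⟨at1 θ i v0, at1_mem (by decide), fun h => absurd
    ((fx_e hθ (by simp; decide)).1 h) (by simp; decide)⟩

/-- The number of nontrivial coordinates. -/
def wt (d : ι → D8) : ℕ := (Finset.univ.filter fun i => d i ≠ 1).card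

theorem wt_single (i : ι) {u : D8} (h : u ≠ 1) : wt (Pi.mulSingle i u : ι → D8) = 1 := by
  rw [wt, Finset.card_eq_one]
  refine ⟨i, Finset.ext fun j => ?_⟩
  by_cases e : j = i
  · subst e; simpa using h
  · simp [e]

/-- A weight preserving transvection that fixes `t` acts like one of the `eᵢ`. -/
theorem Tv.eq_e (hθ : Function.Injective θ) (h : Tv θ x c) (ht : Fx x (zs θ Finset.univ))
    (hw : ∀ d d', (∀ i, d i ∈ V0) → (∀ i, d' i ∈ V0) → x * θ d * x⁻¹ = θ d' → wt d = wt d') :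
    ∃ j, c = at1 θ j z0 ∧ ∀ v ∈ VV θ, (Fx x v ↔ Fx (at1 θ j e0) v) := by
  obtain ⟨c0, hc0, rfl⟩ := mem_pr.1 h.mem
  have one : ∀ i, at1 θ i 1 = 1 := fun i => by simp [at1]
  have k1 : ∀ i k, k ≠ i → c0 k ≠ 1 → ∀ u ∈ V0, ¬ Fx x (at1 θ i u) → u * c0 i = 1 := by
    intro i k hk hc u hu hf
    have u1 : u ≠ 1 := fun e => hf (by rw [e, one]; exact Fx.one x)
    have e := h.eq (at1_mem hu) hf
    rw [at1, ← map_mul] at e
    have m := (map_mem_pr hθ).1 (at1_mem (θ := θ) (i := i) hu)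
    have := hw _ _ m (fun j => mul_mem (m j) (hc0 j)) e
    rw [wt_single i u1, eq_comm, wt, Finset.card_eq_one] at this
    obtain ⟨a, ha⟩ := this
    by_contra hne
    have a1 : k ∈ ({a} : Finset ι) := ha ▸ by simpa [hk] using hc
    have a2 : i ∈ ({a} : Finset ι) := ha ▸ by simpa using hne
    exact hk ((Finset.mem_singleton.1 a1).trans (Finset.mem_singleton.1 a2).symm)
  have k2 : ∀ i, ∀ u ∈ V0, ¬ Fx x (at1 θ i u) → ∀ k ≠ i, c0 k = 1 := by
    intro i u hu hf k hk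
    by_contra hc
    obtain ⟨w, hw, w1, w2⟩ := (by decide : ∀ u ∈ V0, ∃ w ∈ V0, w ≠ 1 ∧ w ≠ u) u hu
    have a := k1 i k hk hc u hu hf
    by_cases hf' : Fx x (at1 θ i w)
    · have := k1 i k hk hc (u * w) (mul_mem hu hw) (by
        rw [at1_mul, h.mul_iff (at1_mem hu) (at1_mem hw)]; tauto)
      exact w1 (mul_eq_left.1 (mul_right_cancel (this.trans a.symm)))
    · exact w2 (mul_right_cancel ((k1 i k hk hc w hw hf').trans a.symm))
  obtain ⟨i, u, hu, hf⟩ : ∃ i, ∃ u ∈ V0, ¬ Fx x (at1 θ i u) := by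
    by_contra hc
    push Not at hc
    obtain ⟨v, hv, hf⟩ := h.ex
    obtain ⟨d, hd, rfl⟩ := mem_pr.1 hv
    exact hf (fx_map fun k => hc k _ (hd k))
  have e1 : θ c0 = at1 θ i (c0 i) := by
    rw [at1]
    congr 1
    funext k
    by_cases e : k = i
    · subst e; simp
    · simp [e, k2 i u hu hf k e]
  have c1 : c0 i ≠ 1 := fun e => h.ne (by rw [e1, e, one])
  have k3 : ∀ d, (∀ k, d k ∈ V0) → (Fx x (θ d) ↔ Fx x (at1 θ i (d i))) := fun d hd => by
    have m : ∀ k, Function.update d i 1 k ∈ V0 := fun k => by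
      by_cases e : k = i
      · subst e; simp
      · simpa [e] using hd k
    have e : θ d = at1 θ i (d i) * θ (Function.update d i 1) := by
      rw [at1, ← map_mul]
      congr 1
      funext k
      by_cases e : k = i
      · subst e; simp
      · simp [e]
    have f : Fx x (θ (Function.update d i 1)) := fx_map fun k => by
      by_cases e : k = i
      · subst e; simpa [one] using Fx.one x
      · by_contra hf'
        exact c1 (k2 k _ (m k) hf' i (Ne.symm e))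
    rw [e, h.mul_iff (at1_mem (hd i)) (mem_pr.2 ⟨_, m, rfl⟩)]
    tauto
  have f1 : Fx x (at1 θ i z0) := by
    simpa using (k3 _ fun k => by simp [mem_V0]).1 ht
  have f0 : Fx x (at1 θ i 1) := by rw [one]; exact Fx.one x
  have f2 : Fx x (at1 θ i (v0 * z0)) ↔ Fx x (at1 θ i v0) := by
    rw [at1_mul, h.mul_iff (at1_mem (by decide)) (z_mem i)]; tauto
  have f3 : ¬ Fx x (at1 θ i v0) := fun f => by
    rcases hu with rfl | rfl | rfl | rfl
    exacts [hf f0, hf f1, hf f, hf (f2.2 f)]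
  have k4 : ∀ w ∈ V0, Fx x (at1 θ i w) ↔ w = 1 ∨ w = z0 := by
    rintro w (rfl | rfl | rfl | rfl)
    · simp [f0]
    · simp [f1]
    · exact iff_of_false f3 (by decide)
    · exact iff_of_false (mt f2.1 f3) (by decide)
  refine ⟨i, ?_, fun v hv => ?_⟩
  · rw [e1, ((k4 _ (hc0 i)).1 (e1 ▸ h.fx)).resolve_left c1]
  · obtain ⟨d, hd, rfl⟩ := mem_pr.1 hv
    rw [k3 d hd, k4 _ (hd i), fx_e hθ (hd i)]

end Cfsg.Agent.ALT
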