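import Cfsg.Agent.ALT.KT
import Cfsg.Agent.ALT.KJ2

/-!
If `N(V)` moves `t`, every element of `V` is conjugate to an element of `Z(J)`.
-/

set_option autoImplicit false
set_option linter.unusedSectionVars false

namespace Cfsg.Agent.ALT

open Subgroup Cfsg.Agent.H49

variable {G : Type*} [Group G] [Finite G] {ι : Type*} [Fintype ι] [DecidableEq ι]

/-- The facts on `C(t)` used in the analysis of `N(V)`. -/
structure KV (θ : (ι → D8) →* G) : Prop where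
  js : JS θ
  wt : ∀ x, Fx x (zs θ Finset.univ) → ∀ d d', (∀ i, d i ∈ V0) → (∀ i, d' i ∈ V0) →
    x * θ d * x⁻¹ = θ d' → wt d = wt d'
  perm : ∀ π : Equiv.Perm ι, ∃ h, ∀ d, h * θ d * h⁻¹ = θ (d ∘ π.symm)

/-- The `N(V)`-conjugates of the transvections `eᵢ`, with their centres. -/
def TT (θ : (ι → D8) →* G) (x c : G) : Prop :=
  ∃ g ∈ 𝒩(VV θ), ∃ k, x = g * at1 θ k e0 * g⁻¹ ∧ c = g * at1 θ k z0 * g⁻¹

variable {θ : (ι → D8) →* G} {x c y c' : G}

theorem TT.conj (h : TT θ x c) {g : G} (hg : g ∈ 𝒩(VV θ)) :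
    TT θ (g * x * g⁻¹) (g * c * g⁻¹) := by
  obtain ⟨a, ha, k, rfl, rfl⟩ := h
  exact ⟨g * a, mul_mem hg ha, k, by group, by group⟩

theorem tt_e (i : ι) : TT θ (at1 θ i e0) (at1 θ i z0) := ⟨1, one_mem _, i, by simp, by simp⟩

theorem TT.tv (h : TT θ x c) (hθ : Function.Injective θ) : Tv θ x c := by
  obtain ⟨a, ha, k, rfl, rfl⟩ := h
  exact (tv_e hθ k).conj ha

theorem fx_zs {s : Finset ι} (h : ∀ i ∈ s, Fx x (at1 θ i z0)) : Fx x (zs θ s) :=
  fx_map fun k => by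
    by_cases e : k ∈ s
    · simpa [e] using h k e
    · simpa [e, at1] using Fx.one x

namespace KV

theorem eq_e (k : KV θ) (h : Tv θ x c) (ht : Fx x (zs θ Finset.univ)) :
    ∃ j, c = at1 θ j z0 ∧ ∀ v ∈ VV θ, (Fx x v ↔ Fx (at1 θ j e0) v) :=
  h.eq_e k.js.1 ht (k.wt x ht)

theorem same_axis (k : KV θ) (h : TT θ x c) (h' : Tv θ y c') (e : ∀ v ∈ VV θ, Fx y v ↔ Fx x v) :
    c' = c := by
  obtain ⟨g, hg, i, rfl, rfl⟩ := h
  have h1 := h'.conj (inv_mem hg)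
  have e1 : ∀ v ∈ VV θ, Fx (g⁻¹ * y * g⁻¹⁻¹) v ↔ Fx (at1 θ i e0) v := fun v hv => by
    rw [← fx_conj (g := g), ← fx_conj (g := g) (x := at1 θ i e0),
      ← e _ (conj_mem_of_norm le_rfl hg hv), show g * (g⁻¹ * y * g⁻¹⁻¹) * g⁻¹ = y by group]
  obtain ⟨j, e2, e3⟩ := k.eq_e h1 ((e1 _ (zs_mem_VV _)).2 (fx_zs fun j _ => fx_e_z k.js.1 i j))
  have m : at1 θ i v0 ∈ VV θ := at1_mem (by decide)
  have : j = i := by
    by_contra hne
    have := (e1 _ m).1 ((e3 _ m).2 ((fx_e k.js.1 (by simp [hne])).2 (by simp [hne])))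
    exact absurd ((fx_e k.js.1 (by simp; decide)).1 this) (by simp; decide)
  rw [← this, ← e2]
  group

theorem symm (k : KV θ) (h : TT θ x c) (h' : TT θ y c') (hf : Fx x c') : Fx y c := by
  have t := h.tv k.js.1
  have t' := h'.tv k.js.1
  by_contra hn
  have := k.same_axis h (t.conj t'.norm) fun v hv => by
    obtain ⟨w, hw, rfl⟩ : ∃ w ∈ VV θ, v = y * w * y⁻¹ :=
      ⟨_, conj_mem_of_norm' le_rfl t'.norm hv, by group⟩
    rw [fx_conj]
    rcases t'.act w hw with e | e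
    · rw [e]
    · rw [e, t.mul_iff hw t'.mem]; tauto
  exact hn this

theorem exists_move (k : KV θ) {g : G} (hg : g ∈ 𝒩(VV θ)) (hn : g ∉ 𝒞[zs θ Finset.univ]) :
    ∃ x c, TT θ x c ∧ ¬ Fx x (zs θ Finset.univ) := by
  by_contra hc
  push Not at hc
  have : ∀ i, ∃ j, g * at1 θ i z0 * g⁻¹ = at1 θ j z0 := fun i => by
    have t := (tt_e (θ := θ) i).conj hg
    obtain ⟨j, e, -⟩ := k.eq_e (t.tv k.js.1) (hc _ _ t)
    exact ⟨j, e⟩
  choose π hπ using this
  have inj : Function.Injective π := fun i j e => (at1_inj k.js.1 z0_ne (y := z0) (by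
    have := hπ i
    rw [e, ← hπ j] at this
    simpa using this)).1
  have := conj_zs inj hπ Finset.univ
  rw [Finset.image_univ_of_surjective (Finite.injective_iff_surjective.1 inj)] at this
  exact hn (mem_cent1.2 (mul_inv_eq_iff_eq_mul.1 this))

theorem no_three (k : KV θ) (h : TT θ x c) {i j l : ι} (hij : i ≠ j) (hil : i ≠ l) (hjl : j ≠ l)
    (fi : ¬ Fx x (at1 θ i z0)) (fj : ¬ Fx x (at1 θ j z0)) (fl : ¬ Fx x (at1 θ l z0)) : False := by
  have t := h.tv k.js.1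
  have tj := tv_e k.js.1 j
  have tl := tv_e k.js.1 l
  have cj : ¬ Fx (at1 θ j e0) c := fun f => fj (k.symm (tt_e j) h f)
  have cl : ¬ Fx (at1 θ l e0) c := fun f => fl (k.symm (tt_e l) h f)
  have m1 := mul_mem (z_mem i) t.mem
  have m2 := mul_mem m1 (z_mem j)
  have m3 := mul_mem m2 (z_mem l)
  have e1 := t.eq (z_mem i) fi
  have e2 := tj.eq m1 (by
    rw [tj.mul_iff (z_mem i) t.mem]; simp [cj, fx_e_z k.js.1])
  have e3 := tl.eq m2 (by
    rw [tl.mul_iff m1 (z_mem j), tl.mul_iff (z_mem i) t.mem]; simp [cl, fx_e_z k.js.1])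
  have e4 := t.eq m3 (by
    rw [t.mul_iff m2 (z_mem l), t.mul_iff m1 (z_mem j), t.mul_iff (z_mem i) t.mem]
    simp [fi, fj, fl, t.fx])
  have e5 : at1 θ i z0 * c * at1 θ j z0 * at1 θ l z0 * c = zs θ {i, j, l} := by
    rw [zs_insert (by simp [hij, hil]), zs_insert (by simp [hjl]), zs_singleton, mul_assoc _ c,
      mul_assoc, mul_assoc, mul_right_inj, ← mul_assoc, mul_assoc c,
      VV_comm c t.mem _ (mul_mem (z_mem j) (z_mem l)), mul_assoc, VV_sq c t.mem, mul_one]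
  have := k.js.card_eq (s := {i}) (t := {i, j, l}) (by
    rw [zs_singleton, ← e5]
    exact (((isConj_iff.2 ⟨_, e1⟩).trans (isConj_iff.2 ⟨_, e2⟩)).trans
      (isConj_iff.2 ⟨_, e3⟩)).trans (isConj_iff.2 ⟨_, e4⟩))
  rw [Finset.card_singleton, Finset.card_eq_three.2 ⟨i, j, l, hij, hil, hjl, rfl⟩] at this
  omega

theorem exists_one (k : KV θ) (h : TT θ x c) (hf : ¬ Fx x (zs θ Finset.univ)) :
    ∃ i, ¬ Fx x (at1 θ i z0) ∧ ∀ j ≠ i, Fx x (at1 θ j z0) := by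
  have t := h.tv k.js.1
  obtain ⟨i, hi⟩ : ∃ i, ¬ Fx x (at1 θ i z0) := by
    by_contra hc
    push Not at hc
    exact hf (fx_zs fun i _ => hc i)
  refine ⟨i, hi, fun j hj => ?_⟩
  by_contra fj
  have e : (Finset.univ : Finset ι) = insert i (insert j ((Finset.univ.erase i).erase j)) := by
    rw [Finset.insert_erase (by simpa using hj), Finset.insert_erase (Finset.mem_univ i)]
  refine hf ?_
  rw [e, zs_insert (by simp [hj.symm]), zs_insert (by simp), ← mul_assoc]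
  refine Fx.mul (by rw [t.mul_iff (z_mem i) (z_mem j)]; tauto) (fx_zs fun l hl => ?_)
  by_contra fl
  simp only [Finset.mem_erase, Finset.mem_univ, and_true] at hl
  exact k.no_three h hj.symm hl.2.symm hl.1.symm hi fj fl

theorem exists_perm (k : KV θ) (π : Equiv.Perm ι) :
    ∃ h ∈ 𝒩(VV θ), ∀ i u, h * at1 θ i u * h⁻¹ = at1 θ (π i) u := by
  obtain ⟨h, hh⟩ := k.perm π
  refine ⟨h, mem_norm_of_cj_le fun v hv => ?_, fun i u => ?_⟩
  · obtain ⟨w, hw, rfl⟩ := mem_cj'.1 hv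
    obtain ⟨d, hd, rfl⟩ := mem_pr.1 hw
    exact mem_pr.2 ⟨_, fun i => hd _, (hh d).symm⟩
  · rw [at1, hh, at1]
    congr 1
    funext j
    by_cases e : j = π i
    · subst e; simp
    · have : π.symm j ≠ i := fun e' => e (by rw [← e']; simp)
      simp [e, this]

theorem exists_all (k : KV θ) {g : G} (hg : g ∈ 𝒩(VV θ)) (hn : g ∉ 𝒞[zs θ Finset.univ]) (j : ι) :
    ∃ x c, Tv θ x c ∧ ¬ Fx x (at1 θ j z0) ∧ ¬ Fx (at1 θ j e0) c ∧
      ∀ l ≠ j, Fx x (at1 θ l z0) ∧ Fx (at1 θ l e0) c := by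
  obtain ⟨x, c, h, hf⟩ := k.exists_move hg hn
  obtain ⟨i, h1, h2⟩ := k.exists_one h hf
  obtain ⟨a, ha, e⟩ := k.exists_perm (Equiv.swap i j)
  have t := h.conj ha
  have e1 : ∀ l, Fx (a * x * a⁻¹) (at1 θ l z0) ↔ Fx x (at1 θ (Equiv.swap i j l) z0) := fun l => by
    rw [← fx_conj (g := a) (x := x), e, Equiv.swap_apply_self]
  have f1 : ¬ Fx (a * x * a⁻¹) (at1 θ j z0) := by rwa [e1, Equiv.swap_apply_right]
  refine ⟨_, _, t.tv k.js.1, f1, fun f => f1 (k.symm (tt_e j) t f), fun l hl => ?_⟩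
  have f2 : Fx (a * x * a⁻¹) (at1 θ l z0) := (e1 l).2 (h2 _ fun e' => hl (by
    rw [← Equiv.swap_apply_self i j l, e', Equiv.swap_apply_left]))
  exact ⟨f2, k.symm t (tt_e l) f2⟩

theorem conj_zs (k : KV θ) {g : G} (hg : g ∈ 𝒩(VV θ)) (hn : g ∉ 𝒞[zs θ Finset.univ]) :
    ∀ v ∈ VV θ, ∃ s, IsConj v (zs θ s) := by
  classical
  suffices ∀ n, ∀ v ∈ VV θ, (Finset.univ.filter fun i => ¬ Fx (at1 θ i e0) v).card = n →
      ∃ s, IsConj v (zs θ s) from fun v hv => this _ v hv rfl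
  intro n
  induction n using Nat.strong_induction_on with
  | _ n ih =>
  intro v hv hn'
  by_cases hall : ∀ i, Fx (at1 θ i e0) v
  · obtain ⟨d, hd, rfl⟩ := mem_pr.1 hv
    exact ⟨_, by rw [eq_zs fun i => (fx_e k.js.1 (hd i)).1 (hall i)]⟩
  push Not at hall
  obtain ⟨i, hi⟩ := hall
  obtain ⟨x, c, t, f1, f2, f3⟩ := k.exists_all hg hn i
  obtain ⟨w, hw, c1, c2, c3⟩ : ∃ w ∈ VV θ, IsConj v w ∧ ¬ Fx x w ∧
      ∀ j, Fx (at1 θ j e0) w ↔ Fx (at1 θ j e0) v := by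
    by_cases f : Fx x v
    · refine ⟨v * at1 θ i z0, mul_mem hv (z_mem i), isConj_iff.2 ⟨_, (tv_e k.js.1 i).eq hv hi⟩,
        by rw [t.mul_iff hv (z_mem i)]; tauto, fun j => ?_⟩
      rw [(tv_e k.js.1 j).mul_iff hv (z_mem i)]
      simp [fx_e_z k.js.1]
    · exact ⟨v, hv, IsConj.refl _, f, fun _ => Iff.rfl⟩
  obtain ⟨s, hs⟩ := ih _ (by
    rw [← hn']
    refine Finset.card_lt_card ⟨fun j hj => ?_, fun hs => ?_⟩
    · simp only [Finset.mem_filter, Finset.mem_univ, true_and] at hj ⊢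
      by_cases e : j = i
      · rwa [e]
      · rw [(tv_e k.js.1 j).mul_iff hw t.mem, c3] at hj
        simpa [(f3 j e).2] using hj
    · have := hs (show i ∈ _ by simpa using hi)
      simp only [Finset.mem_filter, Finset.mem_univ, true_and] at this
      rw [(tv_e k.js.1 i).mul_iff hw t.mem, c3] at this
      tauto) (w * c) (mul_mem hw t.mem) rfl
  exact ⟨s, (c1.trans (isConj_iff.2 ⟨_, t.eq hw c2⟩)).trans hs⟩

theorem conj_of_card (k : KV θ) {s t : Finset ι} (h : s.card = t.card) :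
    IsConj (zs θ s) (zs θ t) := by
  classical
  let e : {x // x ∈ s} ≃ {x // x ∈ t} := Finset.equivOfCardEq h
  obtain ⟨a, -, ha⟩ := k.exists_perm e.extendSubtype
  refine isConj_iff.2 ⟨a, ?_⟩
  rw [ALT.conj_zs e.extendSubtype.injective fun i => ha i z0]
  congr 1
  refine Finset.eq_of_subset_of_card_le (fun j hj => ?_)
    (by rw [Finset.card_image_of_injective _ e.extendSubtype.injective, h])
  obtain ⟨i, hi, rfl⟩ := Finset.mem_image.1 hj
  exact e.extendSubtype_mem i hi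

end KV

end Cfsg.Agent.ALT
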