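import Cfsg.Agent.GOLD.Main
import Cfsg.Agent.H49.Prod

/-!
A strongly closed `2⁴` on which some `f` and `f²` act irreducibly, and whose involutions are not
all conjugate, is normal modulo `O(G)`.
-/

set_option autoImplicit false

namespace Cfsg.Agent.ALT

open Subgroup Cfsg.Agent.H49 Cfsg.Agent.GOLD

universe u

variable {G : Type u} [Group G] [Finite G]

theorem normal_of_no_AC {A : Subgroup G} (hsc : SC ⊤ A) (hA : EA A) (h : ∀ J, ¬ AC ⊤ A J) :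
    (A ⊔ pPrimeCore 2 G).Normal := by
  have hs := (str hsc hA).K_le
  have e : {J | AC ⊤ A J} = ∅ := Set.eq_empty_of_forall_notMem h
  rw [e, sSup_empty, sup_bot_eq] at hs
  have e2 : A ⊔ O ⊤ = Kof A ⊤ ⊔ O (⊤ : Subgroup G) :=
    le_antisymm (sup_le_sup_right (le_Kof A ⊤) _) (sup_le hs le_sup_right)
  have hO : O (⊤ : Subgroup G) = pPrimeCore 2 G := H44.Oppof_top
  rw [← hO, e2, normal_iff_top_le_norm]
  refine norm_sup (le_norm_Kof A ⊤) ?_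
  rw [hO, ← normal_iff_top_le_norm]
  have := H44.pPrimeCore_characteristic (G := G) (p := 2)
  infer_instance

theorem no_AC16 {A : Subgroup G} (hsc : SC ⊤ A) (hA : EA A) (h16 : Nat.card A = 16) {f : G}
    (hf : f ∈ 𝒩(A)) (i1 : ∀ W ≤ A, cj f W = W → W = ⊥ ∨ W = A)
    (i2 : ∀ W ≤ A, cj (f * f) W = W → W = ⊥ ∨ W = A) {a b : G} (ha : a ∈ A) (hb : b ∈ A)
    (ha1 : a ≠ 1) (hb1 : b ≠ 1) (hab : ¬ IsConj a b) (J : Subgroup G) : ¬ AC ⊤ A J := by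
  intro hJ
  have hs := str hsc hA
  have cA : ∀ g ∈ 𝒩(A), ∀ J, AC ⊤ A J → AC ⊤ A (cj g J) := fun g hg J hJ => by
    have := hJ.conj g
    rwa [cj_top, cj_eq_of_mem_norm hg] at this
  have ne : ∀ g ∈ 𝒩(A), (∀ W ≤ A, cj g W = W → W = ⊥ ∨ W = A) → ∀ J, AC ⊤ A J → cj g J ≠ J := by
    intro g hg i J hJ e
    rcases i (A ⊓ CO J) inf_le_left (by rw [cj_inf, cj_CO, e, cj_eq_of_mem_norm hg]) with e' | e'
    · obtain ⟨R, -, hR, -⟩ := (hs.acd J hJ).trans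
      rw [e'] at hR
      obtain ⟨r, -, hr⟩ := hR.trans a ha (by rwa [mem_bot]) b hb (by rwa [mem_bot])
      exact hab (isConj_iff.2 ⟨r, mul_inv_eq_one.1 (mem_bot.1 hr)⟩)
    · exact hJ.2 (e'.ge.trans inf_le_right)
  have cB : ∀ J, AC ⊤ A J → Nat.card ↥(A ⊓ CO J) ≤ 4 := fun J hJ => by
    have h1 := card_inf_mul_relIndex (CO J) A
    have h2 := Nat.mul_le_mul_left (Nat.card ↥(CO J ⊓ A)) (hs.acd J hJ).four
    rw [inf_comm]
    omega
  have cU : ∀ J, AC ⊤ A J → 4 ≤ Nat.card ↥(A ⊓ J) := fun J hJ => by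
    have hc : A ⊓ CO J ≤ 𝒩(A ⊓ J) :=
      norm_of_cent (le_cent_of_abelian hA.1 inf_le_left inf_le_left)
    have h1 := card_sup_mul_card_inf (Or.inl hc)
    have h2 : (A ⊓ CO J) ⊔ (A ⊓ J) = A :=
      le_antisymm (sup_le inf_le_left inf_le_left) (hs.acd J hJ).sup
    rw [h2, h16] at h1
    have h3 := card_pos' ((A ⊓ CO J) ⊓ (A ⊓ J))
    have h4 := Nat.mul_le_mul_right (Nat.card ↥(A ⊓ J)) (cB J hJ)
    omega
  have eq : ∀ J J', AC ⊤ A J → AC ⊤ A J' → J ≠ J' → A ⊓ J' = A ⊓ CO J := fun J J' hJ hJ' hne =>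
    eq_of_le_of_card_ge (inf_le_inf_left _ (le_CO_of_ne hJ.1 hJ'.1 hne))
      ((cB J hJ).trans (cU J' hJ'))
  have h1 := cA f hf J hJ
  have h2 := cA f hf _ h1
  have e1 := eq _ _ hJ h1 (ne f hf i1 J hJ).symm
  have e2 := eq _ _ hJ h2 (by rw [cj_cj]; exact (ne _ (mul_mem hf hf) i2 J hJ).symm)
  have e3 := eq _ _ h1 h2 (ne f hf i1 _ h1).symm
  have := (hs.acd _ h1).sup
  rw [e1, ← e2, e3, sup_idem] at this
  exact h1.2 (this.trans inf_le_right)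

end Cfsg.Agent.ALT
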